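import Groth.Agent.RelQRegLib.Flat
import Groth.Agent.FlatLib.StageFlat
import Groth.Agent.FlatLib.SchemeFlat
import Groth.Agent.RichLib.FlatColimit
import Groth.Agent.TransLib.TensorStage
import Groth.Agent.FlatCrit.Quotient
import Groth.Agent.RegImmKindLib.H1Descent
import Mathlib

/-!
# `H₁`-regular sequences with flat quotient descend to a Noetherian stage
-/

set_option autoImplicit false
set_option linter.style.haveILetI false
set_option backward.isDefEq.respectTransparency.types false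

noncomputable section

universe u

open TensorProduct

namespace RelQRegLib


theorem range_tmul_eq {R S B₀ : Type u} [CommRing R] [CommRing S] [Algebra R S] [CommRing B₀] [Algebra R B₀] {r : ℕ}
    (f₀ : Fin r → B₀) : Ideal.span (Set.range fun i => ((1 : S) ⊗ₜ[R] f₀ i : S ⊗[R] B₀)) =
      (Ideal.span (Set.range f₀)).map (Algebra.TensorProduct.includeRight : B₀ →ₐ[R] S ⊗[R] B₀) := by
  rw [Ideal.map_span, ← Set.range_comp]; rfl

/-- The quotient of a base change. -/
def tensorQuotEquiv {R S B₀ : Type u} [CommRing R] [CommRing S] [Algebra R S] [CommRing B₀] [Algebra R B₀] {r : ℕ}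
    (f₀ : Fin r → B₀) : (S ⊗[R] (B₀ ⧸ Ideal.span (Set.range f₀))) ≃ₐ[S]
      (S ⊗[R] B₀) ⧸ Ideal.span (Set.range fun i => ((1 : S) ⊗ₜ[R] f₀ i : S ⊗[R] B₀)) :=
  (Algebra.TensorProduct.tensorQuotientEquiv (R := R) S B₀ S _).trans (Ideal.quotientEquivAlgOfEq S (range_tmul_eq f₀).symm)

/-- Flatness at a prime containing a quasi-regular sequence with flat quotient, Noetherian case. -/
theorem mem_flatLocus_of_quasi {R B : Type u} [CommRing R] [CommRing B] [IsNoetherianRing B] [Algebra R B] {r : ℕ}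
    (f : Fin r → B) (hf : CAlgX.IsQuasiRegular f) (hfl : Module.Flat R (B ⧸ Ideal.span (Set.range f)))
    (q : PrimeSpectrum B) (hq : ∀ i, f i ∈ q.asIdeal) : q ∈ FlatLib.flatLocus R B B := by
  have hflL : Module.Flat R (Localization.AtPrime q.asIdeal ⧸
      Ideal.span (Set.range fun i => algebraMap B (Localization.AtPrime q.asIdeal) (f i))) := by
    rw [RegImmKindLib.range_map]
    haveI := hfl
    haveI : Module.Flat B (Localization.AtPrime q.asIdeal) := IsLocalization.flat _ q.asIdeal.primeCompl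
    have h2 := FlatCrit.flat_quotientMap (R := B) (S := Localization.AtPrime q.asIdeal) (Ideal.span (Set.range f))
    letI : Algebra (B ⧸ Ideal.span (Set.range f))
        (Localization.AtPrime q.asIdeal ⧸ (Ideal.span (Set.range f)).map (algebraMap B (Localization.AtPrime q.asIdeal))) :=
      (Ideal.quotientMap ((Ideal.span (Set.range f)).map (algebraMap B (Localization.AtPrime q.asIdeal)))
        (algebraMap B _) Ideal.le_comap_map).toAlgebra
    haveI : Module.Flat (B ⧸ Ideal.span (Set.range f))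
        (Localization.AtPrime q.asIdeal ⧸ (Ideal.span (Set.range f)).map (algebraMap B (Localization.AtPrime q.asIdeal))) :=
      RingHom.flat_algebraMap_iff.1 h2
    haveI : IsScalarTower R (B ⧸ Ideal.span (Set.range f))
        (Localization.AtPrime q.asIdeal ⧸ (Ideal.span (Set.range f)).map (algebraMap B (Localization.AtPrime q.asIdeal))) :=
      IsScalarTower.of_algebraMap_eq fun _ => rfl
    exact Module.Flat.trans R (B ⧸ Ideal.span (Set.range f)) _
  refine (FlatLib.mem_flatLocus_self_iff q).2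
    (flat_of_quasiRegular _ (RegImmKindLib.isQuasiRegular_map (R := Localization.AtPrime q.asIdeal) hf) ?_ hflL)
  rw [IsLocalRing.jacobson_eq_maximalIdeal ⊥ bot_ne_top, Ideal.span_le]
  rintro _ ⟨i, rfl⟩
  exact (IsLocalization.AtPrime.to_map_mem_maximal_iff (Localization.AtPrime q.asIdeal) q.asIdeal (f i) inferInstance).2 (hq i)

variable {A B : Type u} [CommRing A] [CommRing B] [Algebra A B]

/-- A Noetherian model of a finitely presented algebra with given elements and flat quotient. -/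
theorem exists_noetherian_model [Algebra.FinitePresentation A B] {r : ℕ} (f : Fin r → B)
    (hfl : Module.Flat A (B ⧸ Ideal.span (Set.range f))) :
    ∃ (R : Type u) (_ : CommRing R) (_ : Algebra R A) (_ : IsNoetherianRing R) (B₀ : Type u) (_ : CommRing B₀)
      (_ : Algebra R B₀) (_ : Algebra.FinitePresentation R B₀) (e : A ⊗[R] B₀ ≃ₐ[A] B) (f₀ : Fin r → B₀),
      Module.Flat R (B₀ ⧸ Ideal.span (Set.range f₀)) ∧ ∀ i, e ((1 : A) ⊗ₜ[R] f₀ i) = f i := by
  classical
  let P := Algebra.Presentation.ofFinitePresentation A B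
  let s : Set A := P.coeffs ∪ ⋃ i, ((P.σ (f i)).coeffs : Set A)
  have hs : s.Finite := P.finite_coeffs.union (Set.finite_iUnion fun i => Finset.finite_toSet _)
  let R₀ := Algebra.adjoin ℤ s
  have hR₀ : R₀.FG := ⟨hs.toFinset, by rw [Set.Finite.coe_toFinset]⟩
  haveI : IsNoetherianRing R₀ := isNoetherianRing_of_fg hR₀
  haveI hco : P.HasCoeffs R₀ :=
    ⟨fun x hx => ⟨⟨x, Algebra.subset_adjoin (Or.inl hx)⟩, rfl⟩⟩
  let B₀₀ := P.ModelOfHasCoeffs R₀
  have hlift : ∀ i, ∃ G : MvPolynomial (Fin (Algebra.Presentation.ofFinitePresentationVars A B)) R₀,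
      MvPolynomial.map (algebraMap R₀ A) G = P.σ (f i) := fun i => by
    refine MvPolynomial.mem_range_map_iff_coeffs_subset.mpr fun c hc => ?_
    exact ⟨⟨c, Algebra.subset_adjoin (Or.inr (Set.mem_iUnion.2 ⟨i, hc⟩))⟩, rfl⟩
  choose G hG using hlift
  let f₀₀ : Fin r → B₀₀ := fun i => Ideal.Quotient.mk _ (G i)
  let e₀ : A ⊗[R₀] B₀₀ ≃ₐ[A] B := P.tensorModelOfHasCoeffsEquiv R₀
  have he₀ : ∀ i, e₀ ((1 : A) ⊗ₜ[R₀] f₀₀ i) = f i := fun i => by
    rw [Algebra.Presentation.tensorModelOfHasCoeffsEquiv_tmul, map_one, one_mul,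
      ← MvPolynomial.aeval_map_algebraMap A, hG]
    exact P.aeval_val_σ (f i)
  let J₀ := Ideal.span (Set.range f₀₀)
  let C₀ := B₀₀ ⧸ J₀
  haveI : Algebra.FinitePresentation R₀ C₀ := Algebra.FinitePresentation.quotient (Submodule.fg_span (Set.finite_range _))
  haveI : Module.Flat A (A ⊗[R₀] (B₀₀ ⧸ Ideal.span (Set.range f₀₀))) := by
    haveI := hfl
    have hJ : Ideal.span (Set.range f) =
        (Ideal.span (Set.range fun i => ((1 : A) ⊗ₜ[R₀] f₀₀ i : A ⊗[R₀] B₀₀))).map
          (e₀ : A ⊗[R₀] B₀₀ →+* B) := by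
      rw [Ideal.map_span, ← Set.range_comp]
      exact congrArg (fun φ => Ideal.span (Set.range φ)) (funext fun i => (he₀ i).symm)
    exact Module.Flat.of_linearEquiv
      ((tensorQuotEquiv (S := A) f₀₀).trans (Ideal.quotientEquivAlg _ _ e₀ hJ)).toLinearEquiv
  have hcolim : FlatCA.IsDirectedColimitRing (fun F : Finset A => FlatLib.stg R₀ F)
      (fun F F' h => (Subalgebra.inclusion (FlatLib.stg_mono h)).toRingHom) A :=
    ⟨inferInstance, inferInstance, fun _ => rfl, fun _ _ _ _ _ => rfl, fun _ _ _ => rfl,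
      fun a => ⟨{a}, ⟨a, Algebra.subset_adjoin (Finset.mem_singleton_self a)⟩, rfl⟩,
      fun i x hx => ⟨i, le_rfl, Subtype.ext hx⟩⟩
  obtain ⟨F, hF⟩ := (RichLib.FlatColimit.flat_iff_exists_stage (fun F : Finset A => FlatLib.stg R₀ F)
    (fun F F' h => Subalgebra.inclusion (FlatLib.stg_mono h)) A hcolim (B₀ := C₀) C₀).1 inferInstance
  let R := FlatLib.stg R₀ F
  haveI : IsNoetherianRing R := isNoetherianRing_of_fg ⟨F, rfl⟩
  let f₀ : Fin r → R ⊗[R₀] B₀₀ := fun i => (1 : R) ⊗ₜ f₀₀ i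
  refine ⟨R, inferInstance, inferInstance, inferInstance, R ⊗[R₀] B₀₀, inferInstance, inferInstance, inferInstance,
    (Algebra.TensorProduct.cancelBaseChange R₀ R A A B₀₀).trans e₀, f₀, ?_, fun i => ?_⟩
  · haveI := hF
    exact Module.Flat.of_linearEquiv (tensorQuotEquiv (R := R₀) (S := R) f₀₀).symm.toLinearEquiv
  · simp [f₀, Algebra.TensorProduct.cancelBaseChange_tmul, he₀]

variable {R B₀ : Type u} [CommRing R] [Algebra R A] [CommRing B₀] [Algebra R B₀]

/-- The map out of a stage. -/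
def stageVal (F : Finset A) : (FlatLib.stg R F) ⊗[R] B₀ →ₐ[R] A ⊗[R] B₀ :=
  Algebra.TensorProduct.map (FlatLib.stg R F).val (AlgHom.id R B₀)

/-- The map between two stages. -/
def stageInc {F G : Finset A} (h : F ⊆ G) : (FlatLib.stg R F) ⊗[R] B₀ →ₐ[R] (FlatLib.stg R G) ⊗[R] B₀ :=
  Algebra.TensorProduct.map (Subalgebra.inclusion (FlatLib.stg_mono h)) (AlgHom.id R B₀)

theorem map_val_inclusion {S T : Subalgebra R A} (h : S ≤ T) (x : S ⊗[R] B₀) :
    Algebra.TensorProduct.map T.val (AlgHom.id R B₀)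
        (Algebra.TensorProduct.map (Subalgebra.inclusion h) (AlgHom.id R B₀) x) =
      Algebra.TensorProduct.map S.val (AlgHom.id R B₀) x := by
  induction x using TensorProduct.induction_on with
  | zero => simp only [map_zero]
  | tmul a b =>
    simp only [Algebra.TensorProduct.map_tmul, AlgHom.id_apply, Subalgebra.coe_val, Subalgebra.coe_inclusion]
  | add x y hx hy => simp only [map_add, hx, hy]

theorem stageVal_inc {F G : Finset A} (h : F ⊆ G) (x : (FlatLib.stg R F) ⊗[R] B₀) :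
    stageVal G (stageInc h x) = stageVal F x :=
  map_val_inclusion (FlatLib.stg_mono h) x

theorem stageInc_inc {F G H : Finset A} (h : F ⊆ G) (h' : G ⊆ H) (x : (FlatLib.stg R F) ⊗[R] B₀) :
    stageInc h' (stageInc h x) = stageInc (h.trans h') x := by
  induction x using TensorProduct.induction_on with
  | zero => simp
  | tmul a b =>
    simp only [stageVal, stageInc, Algebra.TensorProduct.map_tmul, AlgHom.id_apply, Subalgebra.coe_val,
      Subalgebra.coe_inclusion, Subalgebra.inclusion_inclusion]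
  | add x y hx hy => simp [hx, hy]

theorem exists_stageVal_eq (w : A ⊗[R] B₀) : ∃ F : Finset A, ∃ x, stageVal (R := R) F x = w := by
  classical
  induction w using TensorProduct.induction_on with
  | zero => exact ⟨∅, 0, map_zero _⟩
  | tmul a b =>
    exact ⟨{a}, ⟨a, Algebra.subset_adjoin (Finset.mem_singleton_self a)⟩ ⊗ₜ b, rfl⟩
  | add y z hy hz =>
    obtain ⟨F, x, rfl⟩ := hy
    obtain ⟨G, x', rfl⟩ := hz
    exact ⟨F ∪ G, stageInc (R := R) (B₀ := B₀) (Finset.subset_union_left : F ⊆ F ∪ G) x + stageInc (R := R) (B₀ := B₀) (Finset.subset_union_right : G ⊆ F ∪ G) x',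
      by rw [map_add, stageVal_inc, stageVal_inc]⟩

theorem exists_stageInc_eq_zero {F : Finset A} (x : (FlatLib.stg R F) ⊗[R] B₀) (hx : stageVal F x = 0) :
    ∃ (G : Finset A) (h : F ⊆ G), stageInc h x = 0 := by
  classical
  let c := TensorProduct.comm R (FlatLib.stg R F) B₀
  have key : ∀ (G : Finset A) (φ : FlatLib.stg R F →ₐ[R] FlatLib.stg R G),
      LinearMap.lTensor B₀ φ.toLinearMap (c x) =
        TensorProduct.comm R _ B₀ (Algebra.TensorProduct.map φ (AlgHom.id R B₀) x) := by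
    intro G φ
    clear hx
    induction x using TensorProduct.induction_on with
    | zero => simp
    | tmul a b => rfl
    | add x y hx hy => simp only [map_add, hx, hy]
  have hx' : LinearMap.lTensor B₀ (FlatLib.stg R F).val.toLinearMap (c x) = 0 := by
    have : LinearMap.lTensor B₀ (FlatLib.stg R F).val.toLinearMap (c x) = TensorProduct.comm R A B₀ (stageVal F x) := by
      clear hx key
      induction x using TensorProduct.induction_on with
      | zero => simp
      | tmul a b => rfl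
      | add x y hx hy => simp only [map_add, hx, hy]
    rw [this, hx, map_zero]
  obtain ⟨G, φ, hφ, h0⟩ := TransLib.exists_kill_tensor (ι := Finset A) (G := fun F => FlatLib.stg R F) (A := A)
    (f := fun F F' h => Subalgebra.inclusion (FlatLib.stg_mono h)) (g := fun F => (FlatLib.stg R F).val)
    (fun _ _ _ => rfl) (fun a => ⟨{a}, ⟨a, Algebra.subset_adjoin (Finset.mem_singleton_self a)⟩, rfl⟩)
    (fun i y hy => ⟨i, le_rfl, Subtype.ext hy⟩) (c x) hx'
  refine ⟨F ∪ G, Finset.subset_union_left, ?_⟩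
  have h1 : (Subalgebra.inclusion (FlatLib.stg_mono (Finset.subset_union_right : G ⊆ F ∪ G))).comp φ =
      Subalgebra.inclusion (FlatLib.stg_mono (Finset.subset_union_left : F ⊆ F ∪ G)) :=
    AlgHom.ext fun a => Subtype.ext (AlgHom.congr_fun hφ a)
  refine (TensorProduct.comm R (FlatLib.stg R (F ∪ G)) B₀).injective ?_
  rw [map_zero]
  show TensorProduct.comm R _ B₀ (Algebra.TensorProduct.map _ (AlgHom.id R B₀) x) = 0
  rw [← key, ← h1, AlgHom.comp_toLinearMap, LinearMap.lTensor_comp_apply, h0, map_zero]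

/-- Elements and finitely many equations descend to a common stage. -/
theorem exists_stage_finite {κ μ : Type*} [Fintype κ] [Fintype μ] (w : κ → A ⊗[R] B₀)
    (E : ∀ G : Finset A, (κ → (FlatLib.stg R G) ⊗[R] B₀) → μ → (FlatLib.stg R G) ⊗[R] B₀)
    (hE : ∀ (F G : Finset A) (h : F ⊆ G) (v : κ → (FlatLib.stg R F) ⊗[R] B₀) (m : μ),
      E G (fun k => stageInc h (v k)) m = stageInc h (E F v m))
    (h0 : ∀ (F : Finset A) (v : κ → (FlatLib.stg R F) ⊗[R] B₀), (∀ k, stageVal F (v k) = w k) →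
      ∀ m, stageVal F (E F v m) = 0) :
    ∃ (G : Finset A) (v : κ → (FlatLib.stg R G) ⊗[R] B₀), ∀ m, E G v m = 0 := by
  classical
  choose F x hx using fun k => exists_stageVal_eq (R := R) (w k)
  let F' := Finset.univ.biUnion F
  have hF : ∀ k, F k ⊆ F' := fun k => Finset.subset_biUnion_of_mem F (Finset.mem_univ k)
  let v : κ → (FlatLib.stg R F') ⊗[R] B₀ := fun k => stageInc (hF k) (x k)
  choose G hG hG0 using fun m => exists_stageInc_eq_zero (E F' v m)
    (h0 F' v (fun k => (stageVal_inc _ _).trans (hx k)) m)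
  let G' := F' ∪ Finset.univ.biUnion G
  refine ⟨G', fun k => stageInc (R := R) (B₀ := B₀) (Finset.subset_union_left : F' ⊆ G') (v k), fun m => ?_⟩
  rw [hE, ← stageInc_inc (hG m) ((Finset.subset_biUnion_of_mem G (Finset.mem_univ m)).trans Finset.subset_union_right),
    hG0, map_zero]

/-- `H₁`-regularity after base change is detected on generators of the relations, when the quotient is flat. -/
theorem isH1Regular_of_gens {r m : ℕ} (f₀ : Fin r → B₀)
    (hfl : Module.Flat R (B₀ ⧸ Ideal.span (Set.range f₀))) (z : Fin m → Fin r → B₀)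
    (hz : Submodule.span B₀ (Set.range z) = LinearMap.ker (Fintype.linearCombination B₀ f₀))
    (A' : Type u) [CommRing A'] [Algebra R A']
    (hT : ∀ k, (fun i => (1 : A') ⊗ₜ[R] z k i) ∈ RegImmKindLib.Triv (fun i => ((1 : A') ⊗ₜ[R] f₀ i : A' ⊗[R] B₀))) :
    CAlgX.IsH1Regular (fun i => ((1 : A') ⊗ₜ[R] f₀ i : A' ⊗[R] B₀)) := by
  classical
  intro a ha
  let J : Ideal B₀ := Ideal.span (Set.range f₀)
  let L : (Fin r → B₀) →ₗ[B₀] B₀ := Fintype.linearCombination B₀ f₀
  let Lj : (Fin r → B₀) →ₗ[B₀] (J : Submodule B₀ B₀) := L.codRestrict J fun v => by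
    rw [Fintype.linearCombination_apply]
    exact sum_mem fun i _ => Ideal.mul_mem_left _ _ (Ideal.subset_span ⟨i, rfl⟩)
  have hLj : Function.Surjective Lj := fun y => by
    obtain ⟨c, hc⟩ := (Ideal.mem_span_range_iff_exists_fun (R := B₀)).1 y.2
    exact ⟨c, Subtype.ext (by simpa [Lj, L, Fintype.linearCombination_apply] using hc)⟩
  let T : (Fin m → B₀) →ₗ[B₀] (Fin r → B₀) := Fintype.linearCombination B₀ z
  have hTL : Function.Exact T Lj := by
    intro v
    constructor
    · intro hv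
      have h1 : v ∈ LinearMap.ker (Fintype.linearCombination B₀ f₀) := congrArg Subtype.val hv
      rw [← hz] at h1
      exact (Submodule.mem_span_range_iff_exists_fun B₀).1 h1 |>.imp fun c hc => by
        rw [← hc, Fintype.linearCombination_apply]
    · rintro ⟨c, rfl⟩
      refine Subtype.ext ?_
      show T c ∈ LinearMap.ker L
      rw [← hz]
      exact (Submodule.mem_span_range_iff_exists_fun B₀).2 ⟨c, (Fintype.linearCombination_apply _ _ _).symm⟩
  haveI := hfl
  have hinj : Function.Injective ((((J : Submodule B₀ B₀).subtype).restrictScalars R).lTensor A') :=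
    PDLib.lTensor_injective_of_flat A' _ ((Submodule.mkQ J).restrictScalars R) Subtype.val_injective
      (LinearMap.exact_subtype_mkQ J) (Submodule.mkQ_surjective J)
  let emb : Fin r → (B₀ →ₗ[R] Fin r → B₀) := fun i => LinearMap.single R (fun _ => B₀) i
  let X : A' ⊗[R] (Fin r → B₀) := ∑ i, (emb i).lTensor A' (a i)
  let pr : Fin r → ((Fin r → B₀) →ₗ[R] B₀) := fun i => LinearMap.proj i
  let pin : A' ⊗[R] (Fin r → B₀) →ₗ[R] (Fin r → A' ⊗[R] B₀) := LinearMap.pi fun i => (pr i).lTensor A'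
  have hXa : pin X = a := by
    funext i
    show (pr i).lTensor A' X = a i
    rw [map_sum, Finset.sum_eq_single i ?_ (fun h => absurd (Finset.mem_univ _) h)]
    · rw [← LinearMap.comp_apply, ← LinearMap.lTensor_comp,
        show (pr i).comp (emb i) = LinearMap.id from LinearMap.ext fun b => Pi.single_eq_same (M := fun _ => B₀) i b,
        LinearMap.lTensor_id, LinearMap.id_apply]
    · intro e _ hne
      rw [← LinearMap.comp_apply, ← LinearMap.lTensor_comp,
        show (pr i).comp (emb e) = 0 from LinearMap.ext fun b => Pi.single_eq_of_ne (M := fun _ : Fin r => B₀) hne.symm b,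
        LinearMap.lTensor_zero, LinearMap.zero_apply]
  have hLX : (L.restrictScalars R).lTensor A' X = 0 := by
    rw [← ha, map_sum]
    refine Finset.sum_congr rfl fun i _ => ?_
    generalize a i = w
    induction w using TensorProduct.induction_on with
    | zero => simp
    | tmul x b =>
      simp [emb, L, Fintype.linearCombination_apply_single, Algebra.TensorProduct.tmul_mul_tmul]
    | add x y hx hy => rw [map_add, map_add, hx, hy, add_mul]
  have h0 : (Lj.restrictScalars R).lTensor A' X = 0 := hinj (by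
    rw [map_zero, ← LinearMap.comp_apply, ← LinearMap.lTensor_comp]
    exact hLX)
  obtain ⟨Y, hY⟩ := ((lTensor_exact A' (f := T.restrictScalars R) (g := Lj.restrictScalars R) hTL hLj) X).1 h0
  rw [← hXa, ← hY]
  clear hY h0 hLX hXa
  induction Y using TensorProduct.induction_on with
  | zero => rw [map_zero, map_zero]; exact zero_mem _
  | tmul x c =>
    have h3 : pin ((T.restrictScalars R).lTensor A' (x ⊗ₜ[R] c)) =
        ∑ k, (x ⊗ₜ[R] c k : A' ⊗[R] B₀) • (fun i => (1 : A') ⊗ₜ[R] z k i : Fin r → A' ⊗[R] B₀) := by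
      funext i
      show x ⊗ₜ[R] (T c i) = _
      rw [Fintype.linearCombination_apply, Finset.sum_apply, Finset.sum_apply, TensorProduct.tmul_sum]
      exact Finset.sum_congr rfl fun k _ => by simp
    rw [h3]
    exact sum_mem fun k _ => Submodule.smul_mem _ _ (hT k)
  | add x y hx hy => rw [map_add, map_add]; exact add_mem hx hy

/-- `H₁`-regularity with flat quotient descends to a finitely generated stage. -/
theorem exists_stage_h1 [IsNoetherianRing B₀] {r : ℕ} (f₀ : Fin r → B₀)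
    (hfl : Module.Flat R (B₀ ⧸ Ideal.span (Set.range f₀)))
    (h1 : CAlgX.IsH1Regular (fun i => ((1 : A) ⊗ₜ[R] f₀ i : A ⊗[R] B₀))) :
    ∃ F : Finset A, CAlgX.IsH1Regular
      (fun i => ((1 : FlatLib.stg R F) ⊗ₜ[R] f₀ i : (FlatLib.stg R F) ⊗[R] B₀)) := by
  classical
  let L : (Fin r → B₀) →ₗ[B₀] B₀ := Fintype.linearCombination B₀ f₀
  obtain ⟨m, z, hz⟩ := Submodule.fg_iff_exists_fin_generating_family.1 (IsNoetherian.noetherian (LinearMap.ker L))
  let fA : Fin r → A ⊗[R] B₀ := fun i => (1 : A) ⊗ₜ[R] f₀ i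
  let zA : Fin m → Fin r → A ⊗[R] B₀ := fun k i => (1 : A) ⊗ₜ[R] z k i
  have hzA : ∀ k, ∑ i, zA k i * fA i = 0 := fun k => by
    have h : z k ∈ LinearMap.ker L := hz ▸ Submodule.subset_span ⟨k, rfl⟩
    rw [LinearMap.mem_ker, Fintype.linearCombination_apply] at h
    have h2 := congrArg (Algebra.TensorProduct.includeRight : B₀ →ₐ[R] A ⊗[R] B₀) h
    simpa [map_sum, zA, fA, Algebra.TensorProduct.tmul_mul_tmul, smul_eq_mul] using h2
  have hmem : ∀ k, ∃ c : Fin r × Fin r → A ⊗[R] B₀,
      ∑ p, c p • (Pi.single p.1 (fA p.2) - Pi.single p.2 (fA p.1) : Fin r → A ⊗[R] B₀) = zA k := fun k => by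
    refine (Submodule.mem_span_range_iff_exists_fun (A ⊗[R] B₀)).1 (Submodule.span_mono ?_ (h1 (zA k) (hzA k)))
    rintro _ ⟨i, j, rfl⟩
    exact ⟨(i, j), rfl⟩
  choose c hc using hmem
  let E : ∀ G : Finset A, (Fin m × (Fin r × Fin r) → (FlatLib.stg R G) ⊗[R] B₀) → Fin m × Fin r →
      (FlatLib.stg R G) ⊗[R] B₀ := fun G v q =>
    ∑ p, v (q.1, p) * ((if q.2 = p.1 then (1 : FlatLib.stg R G) ⊗ₜ[R] f₀ p.2 else 0) -
      (if q.2 = p.2 then (1 : FlatLib.stg R G) ⊗ₜ[R] f₀ p.1 else 0)) - (1 : FlatLib.stg R G) ⊗ₜ[R] z q.1 q.2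
  have hmap : ∀ {S S' : Type u} [CommRing S] [CommRing S'] [Algebra R S] [Algebra R S'] (ψ : S →ₐ[R] S') (b : B₀),
      Algebra.TensorProduct.map ψ (AlgHom.id R B₀) ((1 : S) ⊗ₜ[R] b) = (1 : S') ⊗ₜ[R] b := by
    intros; simp
  obtain ⟨G, v, hv⟩ := exists_stage_finite (R := R) (fun q : Fin m × (Fin r × Fin r) => c q.1 q.2) E
    (fun F G h v q => by
      simp only [E, map_sub, map_sum, map_mul, apply_ite (stageInc (R := R) (B₀ := B₀) h), map_zero]
      simp only [stageInc, hmap])
    (fun F v hv q => by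
      simp only [E, map_sub, map_sum, map_mul, apply_ite (stageVal (R := R) (B₀ := B₀) F), map_zero, hv]
      simp only [stageVal, hmap, sub_eq_zero]
      have h := congrFun (hc q.1) q.2
      simp only [Finset.sum_apply, Pi.smul_apply, Pi.sub_apply, smul_eq_mul, Pi.single_apply] at h
      exact h)
  refine ⟨G, isH1Regular_of_gens f₀ hfl z hz _ fun k => ?_⟩
  have h := fun i => hv (k, i)
  rw [show (fun i => (1 : FlatLib.stg R G) ⊗ₜ[R] z k i : Fin r → (FlatLib.stg R G) ⊗[R] B₀) =
    ∑ p : Fin r × Fin r, v (k, p) • (Pi.single p.1 ((1 : FlatLib.stg R G) ⊗ₜ[R] f₀ p.2) -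
      Pi.single p.2 ((1 : FlatLib.stg R G) ⊗ₜ[R] f₀ p.1) : Fin r → (FlatLib.stg R G) ⊗[R] B₀) from funext fun i => by
    simp only [Finset.sum_apply, Pi.smul_apply, Pi.sub_apply, smul_eq_mul, Pi.single_apply]
    exact (sub_eq_zero.1 (h i)).symm]
  exact sum_mem fun p _ => Submodule.smul_mem _ _ (Submodule.subset_span ⟨p.1, p.2, rfl⟩)

omit [Algebra R A] [CommRing B₀] [Algebra R B₀] in
/-- An algebra is flat over the base along an `H₁`-regular sequence with flat quotient. -/
theorem mem_flatLocus_of_isH1Regular [Algebra.FinitePresentation A B] {r : ℕ} (f : Fin r → B)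
    (hf : CAlgX.IsH1Regular f) (hfl : Module.Flat A (B ⧸ Ideal.span (Set.range f)))
    (q : PrimeSpectrum B) (hq : ∀ i, f i ∈ q.asIdeal) : q ∈ FlatLib.flatLocus A B B := by
  obtain ⟨R, _, _, _, B₀, _, _, _, e, f₀, hfl₀, hef⟩ := exists_noetherian_model f hfl
  haveI : IsNoetherianRing B₀ := Algebra.FiniteType.isNoetherianRing R B₀
  have h1 : CAlgX.IsH1Regular (fun i => ((1 : A) ⊗ₜ[R] f₀ i : A ⊗[R] B₀)) := by
    letI : Algebra B (A ⊗[R] B₀) := (e.symm : B →+* A ⊗[R] B₀).toAlgebra
    haveI : Module.Flat B (A ⊗[R] B₀) := RingHom.flat_algebraMap_iff.1 (RingHom.Flat.of_bijective e.symm.bijective)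
    have h := RegImmKindLib.isH1Regular_map (R := A ⊗[R] B₀) hf
    have e1 : (fun i => algebraMap B (A ⊗[R] B₀) (f i)) = fun i => ((1 : A) ⊗ₜ[R] f₀ i : A ⊗[R] B₀) :=
      funext fun i => by
        show e.symm (f i) = _
        rw [← hef i, AlgEquiv.symm_apply_apply]
    rwa [e1] at h
  obtain ⟨F, hF⟩ := exists_stage_h1 f₀ hfl₀ h1
  let R₂ := FlatLib.stg R F
  let B₂ := R₂ ⊗[R] B₀
  haveI : IsNoetherianRing R₂ := isNoetherianRing_of_fg ⟨F, rfl⟩
  haveI : IsNoetherianRing B₂ := Algebra.FiniteType.isNoetherianRing R₂ B₂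
  let f₂ : Fin r → B₂ := fun i => (1 : R₂) ⊗ₜ[R] f₀ i
  have hfl₂ : Module.Flat R₂ (B₂ ⧸ Ideal.span (Set.range f₂)) := by
    haveI := hfl₀
    exact Module.Flat.of_linearEquiv (tensorQuotEquiv (R := R) (S := R₂) f₀).symm.toLinearEquiv
  let e₂ : A ⊗[R₂] B₂ ≃ₐ[A] B := (Algebra.TensorProduct.cancelBaseChange R R₂ A A B₀).trans e
  let φ : B₂ →+* B := (e₂ : A ⊗[R₂] B₂ →+* B).comp (Algebra.TensorProduct.includeRight : B₂ →ₐ[R₂] A ⊗[R₂] B₂).toRingHom
  have hφf : ∀ i, φ (f₂ i) = f i := fun i => by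
    show e (Algebra.TensorProduct.cancelBaseChange R R₂ A A B₀ ((1 : A) ⊗ₜ[R₂] ((1 : R₂) ⊗ₜ[R] f₀ i))) = f i
    rw [Algebra.TensorProduct.cancelBaseChange_tmul, one_smul, hef]
  let q₂ : PrimeSpectrum B₂ := PrimeSpectrum.comap φ q
  have hq₂ : ∀ i, f₂ i ∈ q₂.asIdeal := fun i => show φ (f₂ i) ∈ q.asIdeal by rw [hφf]; exact hq i
  have h₂ := mem_flatLocus_of_quasi f₂ (Groth.Agent.S2103.result _ hF) hfl₂ q₂ hq₂
  let ι : B₂ →ₗ[R₂] B :=
    { toFun := φ
      map_add' := map_add φ
      map_smul' := fun s x => by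
        rw [RingHom.id_apply]
        show e₂ ((1 : A) ⊗ₜ[R₂] (s • x)) = s • e₂ ((1 : A) ⊗ₜ[R₂] x)
        rw [TensorProduct.tmul_smul]
        exact (e₂.toLinearEquiv.restrictScalars R₂).map_smul s _ }
  exact FlatLib.flat_localized_baseChange q₂.asIdeal.primeCompl (LocalizedModule.mkLinearMap _ B₂)
    q.asIdeal.primeCompl (LocalizedModule.mkLinearMap _ B) φ (fun t ht => ht) ι
    (IsBaseChange.of_equiv e₂.toLinearEquiv fun x => rfl) (fun s m => map_mul φ s m) h₂

end RelQRegLib
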