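import Groth.Agent.RelQRegLib.Point
import Groth.Agent.RelQRegLib.Stage
import Groth.Agent.RegImmKindLib.LocK
import Groth.Agent.RpushLib.HBase
import Mathlib

/-!
# Relatively quasi-regular and `H₁`-regular immersions into finitely presented schemes
-/

set_option autoImplicit false
set_option linter.style.haveILetI false
set_option backward.isDefEq.respectTransparency.types false

noncomputable section

universe u

open CategoryTheory CategoryTheory.Limits AlgebraicGeometry TensorProduct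

namespace RelQRegLib

theorem prime_data {X Z : Scheme.{u}} (i : Z ⟶ X) {U : X.Opens} (hU : IsAffineOpen U)
    (hU' : IsAffineOpen (i ⁻¹ᵁ U)) (hs : Function.Surjective (i.app U)) (z : Z) (hz : i z ∈ U) :
    RingHom.ker (i.app U).hom ≤ (hU.primeIdealOf ⟨i z, hz⟩).asIdeal :=
  (RegImmKindLib.ker_stalkMap i hU hU' hs z hz).2

/-- A chart of a relatively regular immersion, adapted to the base. -/
theorem exists_chart {Z X S : Scheme.{u}} (k : RegImm.Kind) (hk : k ≠ .regular) (f : X ⟶ S) (i : Z ⟶ X)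
    (hi : RegImm.IsRelRegularImmersion k f i) (z : Z) :
    ∃ (U : X.Opens) (V : S.Opens) (e : U ≤ f ⁻¹ᵁ V), IsAffineOpen U ∧ IsAffineOpen V ∧ i z ∈ U ∧
      IsAffineOpen (i ⁻¹ᵁ U) ∧ Function.Surjective (i.app U) ∧
      ∃ rs : List Γ(X, U), k.Seq Γ(X, U) rs ∧ RingHom.ker (i.app U).hom = Ideal.ofList rs ∧
        (letI := (f.appLE V U e).hom.toAlgebra
         Module.Flat Γ(S, V) (Γ(X, U) ⧸ Ideal.ofList rs)) := by
  obtain ⟨⟨himm, hall⟩, hflat⟩ := hi
  obtain ⟨⟨U₀, hU₀⟩, hzU, hcl, rs₀, hrs₀, hker₀⟩ := hall z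
  obtain ⟨hU₀', hs₀⟩ := (KRLib.isClosedImmersion_restrict_iff i hU₀).1 hcl
  obtain ⟨_, ⟨V, hV, rfl⟩, hzV, -⟩ :=
    S.isBasis_affineOpens.exists_subset_of_mem_open (Set.mem_univ (f (i z))) isOpen_univ
  obtain ⟨g, hgle, hzg⟩ := hU₀.exists_basicOpen_le (V := f ⁻¹ᵁ V ⊓ U₀) ⟨i z, ⟨hzV, hzU⟩⟩ hzU
  obtain ⟨h1, h2, h3⟩ := KRLib.basicOpen_data i hU₀ hU₀' hs₀ g
  letI : Algebra Γ(X, U₀) Γ(X, X.basicOpen g) :=
    (X.presheaf.map (homOfLE (X.basicOpen_le g)).op).hom.toAlgebra
  haveI : IsLocalization.Away g Γ(X, X.basicOpen g) := hU₀.isLocalization_basicOpen g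
  haveI : Module.Flat Γ(X, U₀) Γ(X, X.basicOpen g) := IsLocalization.flat _ (Submonoid.powers g)
  obtain ⟨rs, hrs, hker⟩ := RegImmKindLib.GenK.map_flat (R := Γ(X, X.basicOpen g)) hk ⟨rs₀, hrs₀, hker₀⟩
  have e : X.basicOpen g ≤ f ⁻¹ᵁ V := hgle.trans inf_le_left
  refine ⟨X.basicOpen g, V, e, hU₀.basicOpen g, hV, hzg, h1, h2, rs, hrs, h3.trans hker, ?_⟩
  letI := (f.appLE V (X.basicOpen g) e).hom.toAlgebra
  have e' : i ⁻¹ᵁ X.basicOpen g ≤ (i ≫ f) ⁻¹ᵁ V := i.preimage_mono e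
  letI algC : Algebra Γ(S, V) Γ(Z, i ⁻¹ᵁ X.basicOpen g) := ((i ≫ f).appLE V _ e').hom.toAlgebra
  haveI := hflat
  haveI : Module.Flat Γ(S, V) Γ(Z, i ⁻¹ᵁ X.basicOpen g) := (i ≫ f).flat_appLE hV h1 e'
  let π : Γ(X, X.basicOpen g) →ₐ[Γ(S, V)] Γ(Z, i ⁻¹ᵁ X.basicOpen g) :=
    { (i.app (X.basicOpen g)).hom with
      commutes' := fun r => by
        show (f.appLE V (X.basicOpen g) e ≫ i.app (X.basicOpen g)).hom r = ((i ≫ f).appLE V _ e').hom r
        rw [Scheme.Hom.app_eq_appLE, Scheme.Hom.appLE_comp_appLE] }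
  exact Module.Flat.of_linearEquiv ((Ideal.quotientEquivAlgOfEq Γ(S, V)
    (show Ideal.ofList rs = RingHom.ker π from (h3.trans hker).symm)).trans
    (Ideal.quotientKerAlgEquivOfSurjective (f := π) h2)).toLinearEquiv

/-- Flatness along a relatively `H₁`-regular immersion. -/
theorem flat_stalkMap_of_h1 {Z X S : Scheme.{u}} (f : X ⟶ S) [LocallyOfFinitePresentation f] (i : Z ⟶ X)
    (hi : RegImm.IsRelRegularImmersion RegImm.Kind.h1 f i) (z : Z) : (f.stalkMap (i z)).hom.Flat := by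
  obtain ⟨U, V, e, hU, hV, hz, hU', hs, rs, hrs, hker, hfl⟩ := exists_chart _ (by decide) f i hi z
  refine (FlatLib.flat_stalkMap_iff V hV U hU e hz).2 ?_
  have hfp := f.finitePresentation_appLE hV hU e
  algebraize [(f.appLE V U e).hom]
  refine mem_flatLocus_of_isH1Regular rs.get hrs (by rw [← ofList_eq_span]; exact hfl) _ fun j => ?_
  refine prime_data i hU hU' hs z hz ?_
  rw [hker]
  exact Ideal.subset_span (List.get_mem rs j)

theorem isRelRegularImmersion_quasi_of_h1 {Z X S : Scheme.{u}} (f : X ⟶ S) (i : Z ⟶ X)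
    (hi : RegImm.IsRelRegularImmersion RegImm.Kind.h1 f i) :
    RegImm.IsRelRegularImmersion RegImm.Kind.quasi f i :=
  ⟨⟨hi.1.1, fun z => by
    obtain ⟨U, hzU, hcl, rs, hrs, hker⟩ := hi.1.2 z
    exact ⟨U, hzU, hcl, rs, RegImmKindLib.seq_quasi_of_h1 hrs, hker⟩⟩, hi.2⟩

/-- A regular chart from a quasi-regular sequence. -/
theorem isRegularImmersionAt_of_away {Z X : Scheme.{u}} (i : Z ⟶ X) {U : X.Opens} (hU : IsAffineOpen U)
    (hU' : IsAffineOpen (i ⁻¹ᵁ U)) (hs : Function.Surjective (i.app U)) (z : Z) (hz : i z ∈ U)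
    (rs : List Γ(X, U)) (hker : RingHom.ker (i.app U).hom = Ideal.ofList rs)
    (hb : ∃ b ∉ (hU.primeIdealOf ⟨i z, hz⟩).asIdeal, ∀ (L : Type u) [CommRing L] [Algebra Γ(X, U) L]
      [IsLocalization.Away b L], RingTheory.Sequence.IsRegular L (rs.map (algebraMap Γ(X, U) L))) :
    RegImm.IsRegularImmersionAt RegImm.Kind.regular i z := by
  obtain ⟨b, hbq, hreg⟩ := hb
  obtain ⟨h1, h2, h3⟩ := KRLib.basicOpen_data i hU hU' hs b
  letI : Algebra Γ(X, U) Γ(X, X.basicOpen b) :=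
    (X.presheaf.map (homOfLE (X.basicOpen_le b)).op).hom.toAlgebra
  haveI : IsLocalization.Away b Γ(X, X.basicOpen b) := hU.isLocalization_basicOpen b
  refine ⟨⟨X.basicOpen b, hU.basicOpen b⟩, ?_,
    (KRLib.isClosedImmersion_restrict_iff i (hU.basicOpen b)).2 ⟨h1, h2⟩, _, hreg Γ(X, X.basicOpen b), ?_⟩
  · show i z ∈ X.basicOpen b
    rw [show i z = hU.fromSpec (hU.primeIdealOf ⟨i z, hz⟩) from (hU.fromSpec_primeIdealOf ⟨i z, hz⟩).symm]
    show hU.primeIdealOf ⟨i z, hz⟩ ∈ hU.fromSpec ⁻¹ᵁ X.basicOpen b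
    rw [hU.fromSpec_preimage_basicOpen b]
    exact hbq
  · rw [h3, hker]
    exact Ideal.map_ofList _ rs

/-- A relatively quasi-regular immersion is regular where the ambient scheme is flat. -/
theorem regular_of_quasi {Z X S : Scheme.{u}} (f : X ⟶ S) [LocallyOfFinitePresentation f] (i : Z ⟶ X)
    (hi : RegImm.IsRelRegularImmersion RegImm.Kind.quasi f i) (z : Z) (hflat : (f.stalkMap (i z)).hom.Flat) :
    RegImm.IsRegularImmersionAt RegImm.Kind.regular i z := by
  obtain ⟨U, V, e, hU, hV, hz, hU', hs, rs, hrs, hker, hfl⟩ := exists_chart _ (by decide) f i hi z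
  have hq := (FlatLib.flat_stalkMap_iff V hV U hU e hz).1 hflat
  refine isRegularImmersionAt_of_away i hU hU' hs z hz rs hker ?_
  have hfp := f.finitePresentation_appLE hV hU e
  algebraize [(f.appLE V U e).hom]
  refine exists_away_regular _ rs (fun b hb => prime_data i hU hU' hs z hz ?_) hq hrs hfl
  rw [hker]
  exact Ideal.subset_span hb

/-- Regularity near a prime after an arbitrary base change. -/
theorem exists_away_regular_baseChange {A B A' B' : Type u} [CommRing A] [CommRing B] [CommRing A'] [CommRing B']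
    [Algebra A B] [Algebra A A'] [Algebra A' B'] [Algebra B B'] [Algebra A B'] [IsScalarTower A A' B']
    [IsScalarTower A B B'] [Algebra.IsPushout A A' B B'] [Algebra.FinitePresentation A B]
    (g : List B) (hq : CAlgX.IsQuasiRegular g.get) (hfl : Module.Flat A (B ⧸ Ideal.ofList g))
    (q' : Ideal B') [q'.IsPrime] (hg : ∀ b ∈ g, algebraMap B B' b ∈ q')
    (hflat : PrimeSpectrum.comap (algebraMap B B') ⟨q', inferInstance⟩ ∈ FlatLib.flatLocus A B B) :
    ∃ b ∉ q', ∀ (L : Type u) [CommRing L] [Algebra B' L] [IsLocalization.Away b L],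
      RingTheory.Sequence.IsRegular L ((g.map (algebraMap B B')).map (algebraMap B' L)) := by
  let E : A' ⊗[A] B ≃ₐ[A'] B' := Algebra.IsPushout.equiv A A' B B'
  haveI : Algebra.FinitePresentation A' B' := Algebra.FinitePresentation.equiv E
  have hflat' : (⟨q', inferInstance⟩ : PrimeSpectrum B') ∈ FlatLib.flatLocus A' B' B' :=
    FlatLib.flat_localized_baseChange (PrimeSpectrum.comap (algebraMap B B') ⟨q', inferInstance⟩).asIdeal.primeCompl
      (LocalizedModule.mkLinearMap _ B) q'.primeCompl (LocalizedModule.mkLinearMap _ B') (algebraMap B B')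
      (fun t ht => ht) (IsScalarTower.toAlgHom A B B').toLinearMap (Algebra.IsPushout.out)
      (fun s m => map_mul (algebraMap B B') s m) hflat
  have hfl' : Module.Flat A (B ⧸ Ideal.span (Set.range g.get)) := by rw [← ofList_eq_span]; exact hfl
  have hqt := QReg16BC.isQuasiRegular_baseChange (f := g.get) A' hfl' hq
  letI : Algebra (A' ⊗[A] B) B' := (E : A' ⊗[A] B →+* B').toAlgebra
  haveI : Module.Flat (A' ⊗[A] B) B' := RingHom.flat_algebraMap_iff.1 (RingHom.Flat.of_bijective E.bijective)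
  have hq' : CAlgX.IsQuasiRegular (fun j => algebraMap B B' (g.get j)) := by
    have h := RegImmKindLib.isQuasiRegular_map (R := B') hqt
    have e1 : (fun j => algebraMap (A' ⊗[A] B) B' ((1 : A') ⊗ₜ[A] g.get j)) =
        fun j => algebraMap B B' (g.get j) := funext fun j => by
      show E ((1 : A') ⊗ₜ[A] g.get j) = _
      rw [Algebra.IsPushout.equiv_tmul, map_one, one_mul]
    rwa [e1] at h
  have hof : g.map (algebraMap B B') = List.ofFn fun j => algebraMap B B' (g.get j) := by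
    conv_lhs => rw [← List.ofFn_get g, List.map_ofFn]
    rfl
  refine exists_away_regular q' (g.map (algebraMap B B')) (fun b hb => ?_) hflat'
    (RegImmKindLib.seq_congr_get _ _ (fun f => CAlgX.IsQuasiRegular f) (hof.symm.trans (List.ofFn_get _).symm) hq') ?_
  · obtain ⟨a, ha, rfl⟩ := List.mem_map.1 hb
    exact hg a ha
  · rw [← Ideal.map_ofList, ofList_eq_span]
    have hJ : (Ideal.span (Set.range g.get)).map (algebraMap B B') =
        (Ideal.span (Set.range fun j => ((1 : A') ⊗ₜ[A] g.get j : A' ⊗[A] B))).map (E : A' ⊗[A] B →+* B') := by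
      rw [Ideal.map_span, Ideal.map_span, ← Set.range_comp, ← Set.range_comp]
      refine congrArg (fun φ => Ideal.span (Set.range φ)) (funext fun j => ?_)
      show algebraMap B B' (g.get j) = E ((1 : A') ⊗ₜ[A] g.get j)
      rw [Algebra.IsPushout.equiv_tmul, map_one, one_mul]
    haveI := hfl'
    exact Module.Flat.of_linearEquiv
      ((tensorQuotEquiv (R := A) (S := A') g.get).trans (Ideal.quotientEquivAlg _ _ E hJ)).symm.toLinearEquiv

/-- The data of a chart adapted to the base. -/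
def Chart (k : RegImm.Kind) {Z X S : Scheme.{u}} (f : X ⟶ S) (i : Z ⟶ X) (z : Z) : Prop :=
  ∃ (U : X.Opens) (V : S.Opens) (e : U ≤ f ⁻¹ᵁ V), IsAffineOpen U ∧ IsAffineOpen V ∧ i z ∈ U ∧
      IsAffineOpen (i ⁻¹ᵁ U) ∧ Function.Surjective (i.app U) ∧
      ∃ rs : List Γ(X, U), k.Seq Γ(X, U) rs ∧ RingHom.ker (i.app U).hom = Ideal.ofList rs ∧
        (letI := (f.appLE V U e).hom.toAlgebra
         Module.Flat Γ(S, V) (Γ(X, U) ⧸ Ideal.ofList rs))

/-- Regularity after an arbitrary base change, at a point. -/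
theorem regular_baseChange_of_chart {Z X S Z' X' S' : Scheme.{u}} {f : X ⟶ S} [LocallyOfFinitePresentation f]
    {i : Z ⟶ X} {g : S' ⟶ S} {p₁ : X' ⟶ X} {p₂ : X' ⟶ S'} (H : IsPullback p₁ p₂ f g)
    {q : Z' ⟶ Z} {i' : Z' ⟶ X'} (hsq : IsPullback q i' i p₁) (z' : Z')
    (hc : Chart .quasi f i (q z')) (hflat : (f.stalkMap (i (q z'))).hom.Flat) :
    RegImm.IsRegularImmersionAt RegImm.Kind.regular i' z' := by
  let z := q z'
  have hpz : p₁ (i' z') = i z := by rw [← Scheme.Hom.comp_apply, ← hsq.w, Scheme.Hom.comp_apply]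
  obtain ⟨U, V, e, hU, hV, hz, hU', hs, rs, hrs, hker, hfl⟩ := hc
  have hzV : g (p₂ (i' z')) ∈ V := by
    rw [← Scheme.Hom.comp_apply, ← H.w, Scheme.Hom.comp_apply, hpz]
    exact e hz
  obtain ⟨_, ⟨V', hV', rfl⟩, hzV', hg⟩ := S'.isBasis_affineOpens.exists_subset_of_mem_open hzV (g ⁻¹ᵁ V).2
  let W := p₁ ⁻¹ᵁ U ⊓ p₂ ⁻¹ᵁ V'
  have hW : IsAffineOpen W := RpushLib.isAffineOpen_fibre H hV hV' hg hU e
  have hzW : i' z' ∈ W := ⟨show p₁ (i' z') ∈ U by rw [hpz]; exact hz, hzV'⟩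
  have hWU : W ≤ p₁ ⁻¹ᵁ U := inf_le_left
  obtain ⟨h1, h2, h3⟩ := KRLib.baseChange_data hsq hU hU' hs hW hWU
  refine isRegularImmersionAt_of_away i' hW h1 h2 z' hzW (rs.map (p₁.appLE U W hWU).hom)
    (by rw [h3, hker, Ideal.map_ofList]) ?_
  have hpo := RpushLib.isPushout_sections H hV hV' hg hU e
  have hq := (FlatLib.flat_stalkMap_iff V hV U hU e hz).1 hflat
  have hfp := f.finitePresentation_appLE hV hU e
  algebraize [(f.appLE V U e).hom, (g.appLE V V' hg).hom, (p₁.appLE U W hWU).hom,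
    (p₂.appLE V' W inf_le_right).hom, ((p₂.appLE V' W inf_le_right).hom.comp (g.appLE V V' hg).hom)]
  haveI : IsScalarTower Γ(S, V) Γ(X, U) Γ(X', W) :=
    IsScalarTower.of_algebraMap_eq' (congrArg CommRingCat.Hom.hom hpo.w).symm
  haveI : Algebra.IsPushout Γ(S, V) Γ(X, U) Γ(S', V') Γ(X', W) :=
    CommRingCat.isPushout_iff_isPushout.mp hpo
  haveI : Algebra.IsPushout Γ(S, V) Γ(S', V') Γ(X, U) Γ(X', W) := Algebra.IsPushout.symm inferInstance
  have hcomap : PrimeSpectrum.comap (algebraMap Γ(X, U) Γ(X', W)) (hW.primeIdealOf ⟨i' z', hzW⟩) =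
      hU.primeIdealOf ⟨i z, hz⟩ := by
    have h := IsAffineOpen.comap_primeIdealOf_appLE (f := p₁) U hU W hW hWU hzW
    simp only [hpz] at h
    exact h
  refine exists_away_regular_baseChange (A := Γ(S, V)) (A' := Γ(S', V')) (B := Γ(X, U)) rs hrs hfl
    (hW.primeIdealOf ⟨i' z', hzW⟩).asIdeal (fun b hb => ?_) (hcomap.symm ▸ hq)
  have hb' : b ∈ RingHom.ker (i.app U).hom := by rw [hker]; exact Ideal.subset_span hb
  have h4 := prime_data i hU hU' hs z hz hb'
  rw [← hcomap] at h4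
  exact h4

/-- Regularity after an arbitrary base change. -/
theorem regular_baseChange_of_quasi {Z X S : Scheme.{u}} (f : X ⟶ S) [LocallyOfFinitePresentation f] (i : Z ⟶ X)
    (hi : RegImm.IsRelRegularImmersion RegImm.Kind.quasi f i)
    (hflat : ∀ z : Z, (f.stalkMap (i z)).hom.Flat) (S' : Scheme.{u}) (g : S' ⟶ S) :
    RegImm.IsRegularImmersion RegImm.Kind.regular (pullback.snd i (pullback.fst f g)) := by
  haveI := hi.1.1
  exact ⟨inferInstance, fun z' => regular_baseChange_of_chart (IsPullback.of_hasPullback f g)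
    (IsPullback.of_hasPullback i (pullback.fst f g)) z' (exists_chart _ (by decide) f i hi _) (hflat _)⟩

/-- The open set of flatness. -/
theorem exists_flat_open {Z X S : Scheme.{u}} (f : X ⟶ S) [LocallyOfFinitePresentation f] (i : Z ⟶ X)
    (h : ∀ z : Z, (f.stalkMap (i z)).hom.Flat) :
    ∃ U : X.Opens, Set.range (fun z : ↥Z => i z) ⊆ (U : Set ↥X) ∧ Flat (U.ι ≫ f) := by
  let U : X.Opens := ⟨_, FlatLib.isOpen_setOf_flat_stalkMap f⟩
  refine ⟨U, by rintro _ ⟨z, rfl⟩; exact h z, Flat.of_stalkMap _ fun x => ?_⟩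
  rw [Scheme.Hom.stalkMap_comp]
  exact RingHom.Flat.comp x.2 (RingHom.Flat.of_bijective (ConcreteCategory.bijective_of_isIso (U.ι.stalkMap x)))

end RelQRegLib
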