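import Groth.Agent.RelQRegLib.Fibres
import Groth.Agent.SDivLib.FlatDiv
import Groth.Agent.S4666
import Groth.Prelude.Def_BlowUp2
import Groth.Prelude.Def_CurvBase
import Mathlib

/-!
# Relative effective Cartier divisors from the fibres
-/

set_option autoImplicit false
set_option linter.style.haveILetI false
set_option backward.isDefEq.respectTransparency.types false

noncomputable section

universe u

open CategoryTheory CategoryTheory.Limits AlgebraicGeometry TensorProduct RingTheory.Sequence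
open scoped nonZeroDivisors

namespace RelQRegLib

theorem isSMulRegular_iff_nzd {T : Type u} [CommRing T] {h : T} : IsSMulRegular T h ↔ h ∈ T⁰ := by
  rw [mem_nonZeroDivisors_iff_left]
  refine ⟨fun hr x hx => hr (show h • x = h • 0 by rw [smul_zero]; exact hx), fun hn a b hab => ?_⟩
  exact sub_eq_zero.1 (hn (a - b) (by rw [mul_sub, sub_eq_zero]; exact hab))

theorem isRegular_singleton {T : Type u} [CommRing T] [IsLocalRing T] {h : T} (hn : h ∈ T⁰)
    (hm : h ∈ IsLocalRing.maximalIdeal T) : IsRegular T [h] := by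
  refine ⟨(isWeaklyRegular_cons_iff T h []).2 ⟨isSMulRegular_iff_nzd.2 hn, IsWeaklyRegular.nil _ _⟩, ?_⟩
  rw [smul_eq_mul, Ideal.mul_top, Ideal.ofList_singleton]
  intro htop
  exact (IsLocalRing.maximalIdeal.isMaximal T).ne_top
    (eq_top_iff.2 (htop.le.trans ((Ideal.span_singleton_le_iff_mem _).2 hm)))

theorem nzd_of_isRegular_singleton {T : Type u} [CommRing T] {h : T} (hr : IsRegular T [h]) : h ∈ T⁰ :=
  isSMulRegular_iff_nzd.1 ((isWeaklyRegular_cons_iff T h []).1 hr.toIsWeaklyRegular).1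

theorem mem_flatLocus_of_surjective {A P S : Type u} [CommRing A] [CommRing P] [CommRing S] [Algebra A P]
    [Algebra A S] [Algebra P S] [IsScalarTower A P S] (hsurj : Function.Surjective (algebraMap P S))
    (y : PrimeSpectrum S) (h : PrimeSpectrum.comap (algebraMap P S) y ∈ FlatLib.flatLocus A P S) :
    y ∈ FlatLib.flatLocus A S S := by
  rw [FlatLib.mem_flatLocus_self_iff]
  let T := (PrimeSpectrum.comap (algebraMap P S) y).asIdeal.primeCompl
  haveI : IsLocalization (Algebra.algebraMapSubmonoid S T) (Localization.AtPrime y.asIdeal) := by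
    have e : Algebra.algebraMapSubmonoid S T = y.asIdeal.primeCompl := by
      refine le_antisymm ?_ fun z hz => ?_
      · rintro _ ⟨t, ht, rfl⟩
        exact ht
      · obtain ⟨t, rfl⟩ := hsurj z
        exact ⟨t, hz, rfl⟩
    rw [e]
    exact Localization.isLocalization
  haveI : IsLocalizedModule T (IsScalarTower.toAlgHom P S (Localization.AtPrime y.asIdeal)).toLinearMap :=
    isLocalizedModule_iff_isLocalization.2 inferInstance
  exact FlatLib.flat_of_le T (LocalizedModule.mkLinearMap T S) T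
    (IsScalarTower.toAlgHom P S (Localization.AtPrime y.asIdeal)).toLinearMap le_rfl h

theorem fibElim_of_nzd {A B : Type u} [CommRing A] [CommRing B] [Algebra A B] (q : Ideal B) [q.IsPrime]
    (O T : Type u) [CommRing O] [CommRing T] [Algebra B O] [IsLocalization.AtPrime O q] (π : O →+* T)
    (hπ : Function.Surjective π)
    (hker : RingHom.ker π = ((q.comap (algebraMap A B)).map (algebraMap A B)).map (algebraMap B O))
    (γ : B) (hγ : π (algebraMap B O γ) ∈ T⁰) : FibElim A q [γ] := by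
  intro i hi m h
  obtain rfl : i = 0 := by simpa using hi
  obtain ⟨t, ht, hmem⟩ := h
  simp only [List.take_zero, Ideal.ofList_nil, sup_bot_eq, List.getElem_cons_zero] at hmem ⊢
  have h1 : algebraMap B O (t * (γ * m)) ∈ RingHom.ker π := by rw [hker]; exact Ideal.mem_map_of_mem _ hmem
  rw [RingHom.mem_ker, map_mul, map_mul, map_mul, map_mul,
    ((IsLocalization.map_units O (⟨t, ht⟩ : q.primeCompl)).map π).mul_right_eq_zero,
    mul_left_mem_nonZeroDivisors_eq_zero_iff hγ, ← RingHom.mem_ker, hker,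
    IsLocalization.algebraMap_mem_map_algebraMap_iff q.primeCompl] at h1
  exact h1

variable {X S : Scheme.{u}} (φ : X ⟶ S) (𝓘 : X.IdealSheafData)

theorem ker_fibre_stalkMap {s : S} (x' : φ.fiber s) {V : S.Opens} (hV : IsAffineOpen V) {U : X.Opens}
    (hU : IsAffineOpen U) (e : U ≤ φ ⁻¹ᵁ V) (hx : φ.fiberι s x' ∈ U) :
    RingHom.ker ((φ.fiberι s).stalkMap x').hom = (((hU.primeIdealOf ⟨φ.fiberι s x', hx⟩).asIdeal.comap
      (φ.appLE V U e).hom).map (φ.appLE V U e).hom).map (X.presheaf.germ U _ hx).hom := by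
  rw [(Groth.Agent.S9501.result φ s x').2, Ideal.map_map]
  let v : V := ⟨φ (φ.fiberι s x'), e hx⟩
  letI algV := S.presheaf.algebra_section_stalk v
  haveI : IsLocalization.AtPrime (S.presheaf.stalk (φ (φ.fiberι s x'))) (hV.primeIdealOf v).asIdeal :=
    hV.isLocalization_stalk v
  have hp : (hU.primeIdealOf ⟨φ.fiberι s x', hx⟩).asIdeal.comap (φ.appLE V U e).hom = (hV.primeIdealOf v).asIdeal :=
    congr($(IsAffineOpen.comap_primeIdealOf_appLE (f := φ) V hV U hU e hx).1)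
  rw [hp, ← IsLocalization.AtPrime.map_eq_maximalIdeal (hV.primeIdealOf v).asIdeal
    (S.presheaf.stalk (φ (φ.fiberι s x'))), Ideal.map_map]
  congr 1
  show (S.presheaf.germ V _ _ ≫ φ.stalkMap (φ.fiberι s x')).hom = (φ.appLE V U e ≫ X.presheaf.germ U _ hx).hom
  rw [Scheme.Hom.germ_stalkMap, Scheme.Hom.appLE, Category.assoc, TopCat.Presheaf.germ_res]

/-- The ideal in the local ring of the fibre. -/
theorem exists_fibre_gen {s : S} (hfib : BlowUp.IsEffCartierIdeal (𝓘.comap (φ.fiberι s))) (x' : φ.fiber s)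
    (U : X.affineOpens) (hx : φ.fiberι s x' ∈ U.1) (hsupp : φ.fiberι s x' ∈ 𝓘.support) :
    ∃ h : (φ.fiber s).presheaf.stalk x', h ∈ ((φ.fiber s).presheaf.stalk x')⁰ ∧
      h ∈ IsLocalRing.maximalIdeal _ ∧
      ((𝓘.ideal U).map (X.presheaf.germ U.1 _ hx).hom).map ((φ.fiberι s).stalkMap x').hom = Ideal.span {h} := by
  obtain ⟨W, hxW, hWU, a, -, ha, -, hIa, -⟩ := SDivLib.exists_common hfib hfib x' ((φ.fiberι s) ⁻¹ᵁ U.1) hx
  letI := (φ.fiber s).presheaf.algebra_section_stalk (⟨x', hxW⟩ : W.1)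
  haveI : IsLocalization.AtPrime ((φ.fiber s).presheaf.stalk x') (W.2.primeIdealOf ⟨x', hxW⟩).asIdeal :=
    W.2.isLocalization_stalk ⟨x', hxW⟩
  refine ⟨((φ.fiber s).presheaf.germ W.1 x' hxW).hom a,
    IsLocalization.map_nonZeroDivisors_le (W.2.primeIdealOf ⟨x', hxW⟩).asIdeal.primeCompl _
      (Submonoid.mem_map_of_mem _ ha), ?_, ?_⟩
  · refine (IsLocalization.AtPrime.to_map_mem_maximal_iff _ (W.2.primeIdealOf ⟨x', hxW⟩).asIdeal a).2 ?_
    have hs : x' ∈ (𝓘.comap (φ.fiberι s)).support := by rw [Scheme.IdealSheafData.support_comap]; exact hsupp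
    exact (SDivLib.mem_support_iff_le _ W hxW).1 hs (hIa ▸ Ideal.mem_span_singleton_self a)
  · rw [← Set.image_singleton, ← Ideal.map_span, ← hIa, Groth.Agent.S4666.ideal_comap_eq 𝓘 (φ.fiberι s) U W hWU,
      Ideal.map_map, Ideal.map_map]
    congr 1
    show (X.presheaf.germ U.1 _ hx ≫ (φ.fiberι s).stalkMap x').hom =
      ((φ.fiberι s).appLE U.1 W.1 hWU ≫ (φ.fiber s).presheaf.germ W.1 x' hxW).hom
    rw [Scheme.Hom.germ_stalkMap, Scheme.Hom.appLE, Category.assoc, TopCat.Presheaf.germ_res]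

theorem exists_point (x : X) : ∃ (s : S) (x' : φ.fiber s), φ.fiberι s x' = x :=
  ⟨φ x, φ.asFiber x, φ.fiberι_asFiber x⟩

theorem exists_top_nhd (x : X) (hx : x ∉ 𝓘.support) : ∃ U : X.affineOpens, x ∈ U.1 ∧
    ∃ f : Γ(X, U.1), f ∈ Γ(X, U.1)⁰ ∧ 𝓘.ideal U = Ideal.span {f} := by
  obtain ⟨U, hU, hxU, -⟩ := exists_isAffineOpen_mem_and_subset (x := x) (U := ⊤) trivial
  have h : ¬ 𝓘.ideal ⟨U, hU⟩ ≤ (hU.primeIdealOf ⟨x, hxU⟩).asIdeal := fun h =>
    hx ((SDivLib.mem_support_iff_le 𝓘 ⟨U, hU⟩ hxU).2 h)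
  obtain ⟨a, ha, hap⟩ := SetLike.not_le_iff_exists.1 h
  refine ⟨X.affineBasicOpen (U := ⟨U, hU⟩) a, (AssPointLib.mem_basicOpen_iff hU hxU a).2 hap, 1, one_mem _, ?_⟩
  rw [Ideal.span_singleton_one, ← 𝓘.map_ideal_basicOpen ⟨U, hU⟩ a]
  letI : Algebra Γ(X, U) Γ(X, X.basicOpen a) := (X.presheaf.map (homOfLE (X.basicOpen_le a)).op).hom.toAlgebra
  haveI : IsLocalization.Away a Γ(X, X.basicOpen a) := hU.isLocalization_basicOpen a
  exact Ideal.eq_top_of_isUnit_mem _ (Ideal.mem_map_of_mem _ ha)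
    (IsLocalization.Away.algebraMap_isUnit (S := Γ(X, X.basicOpen a)) a)

/-- Effective Cartier from the fibres, flat quotient. -/
theorem isEffCartier_of_fibres [Flat φ] [LocallyOfFinitePresentation φ] [Flat (𝓘.subschemeι ≫ φ)]
    [LocallyOfFinitePresentation (𝓘.subschemeι ≫ φ)]
    (hfib : ∀ s : ↥S, BlowUp.IsEffCartierIdeal (𝓘.comap (φ.fiberι s))) : BlowUp.IsEffCartierIdeal 𝓘 := by
  intro x
  by_cases hx : x ∈ 𝓘.support
  swap
  · exact exists_top_nhd 𝓘 x hx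
  obtain ⟨s, x', rfl⟩ := exists_point φ x
  obtain ⟨V, hV, hxV, -⟩ := exists_isAffineOpen_mem_and_subset (x := φ (φ.fiberι s x')) (U := ⊤) trivial
  obtain ⟨U, hU, hxU, e⟩ := exists_isAffineOpen_mem_and_subset (x := φ.fiberι s x') (U := φ ⁻¹ᵁ V) hxV
  obtain ⟨h, hn, hm, hgen⟩ := exists_fibre_gen φ 𝓘 (hfib s) x' ⟨U, hU⟩ hxU hx
  have hfp := φ.finitePresentation_appLE hV hU e
  have e' : 𝓘.subschemeι ⁻¹ᵁ U ≤ (𝓘.subschemeι ≫ φ) ⁻¹ᵁ V := fun y hy => e hy
  have hfpZ := (𝓘.subschemeι ≫ φ).finitePresentation_appLE hV (hU.preimage 𝓘.subschemeι) e'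
  have hflZ := SDivLib.flat_quot φ 𝓘 inferInstance hV ⟨U, hU⟩ e
  have hq := (FlatLib.flat_stalkMap_iff V hV U hU e hxU).1 (Flat.stalkMap φ _)
  have hker := ker_fibre_stalkMap φ x' hV hU e hxU
  algebraize [(φ.appLE V U e).hom, ((𝓘.subschemeι ≫ φ).appLE V _ e').hom]
  let πι : Γ(X, U) →ₐ[Γ(S, V)] Γ(𝓘.subscheme, 𝓘.subschemeι ⁻¹ᵁ U) :=
    { (𝓘.subschemeι.app U).hom with
      commutes' := fun r => by
        show (φ.appLE V U e ≫ 𝓘.subschemeι.app U).hom r = ((𝓘.subschemeι ≫ φ).appLE V _ e').hom r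
        rw [Scheme.Hom.app_eq_appLE, Scheme.Hom.appLE_comp_appLE] }
  have hk : RingHom.ker πι = 𝓘.ideal ⟨U, hU⟩ := Scheme.IdealSheafData.ker_subschemeι_app 𝓘 ⟨U, hU⟩
  have hfg : (𝓘.ideal ⟨U, hU⟩).FG := hk ▸ Algebra.FinitePresentation.ker_fG_of_surjective πι
    (𝓘.subschemeι_app_surjective ⟨U, hU⟩)
  have hflI : Module.Flat Γ(S, V) (Γ(X, U) ⧸ 𝓘.ideal ⟨U, hU⟩) := hflZ
  letI algU := X.presheaf.algebra_section_stalk (⟨φ.fiberι s x', hxU⟩ : U)
  haveI : IsLocalization.AtPrime (X.presheaf.stalk (φ.fiberι s x'))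
      (hU.primeIdealOf ⟨φ.fiberι s x', hxU⟩).asIdeal := hU.isLocalization_stalk ⟨φ.fiberι s x', hxU⟩
  haveI : LocallyOfFiniteType (φ.fiberToSpecResidueField s) :=
    MorphismProperty.pullback_snd (P := @LocallyOfFiniteType) _ _ inferInstance
  haveI : IsLocallyNoetherian (φ.fiber s) :=
    LocallyOfFiniteType.isLocallyNoetherian (φ.fiberToSpecResidueField s)
  haveI : IsNoetherianRing ((φ.fiber s).presheaf.stalk x') := inferInstance
  obtain ⟨g, b, hlen, hb, hg⟩ := exists_away_regular_of_fibre (hU.primeIdealOf ⟨φ.fiberι s x', hxU⟩).asIdeal (𝓘.ideal ⟨U, hU⟩) hfg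
    ((SDivLib.mem_support_iff_le 𝓘 ⟨U, hU⟩ hxU).1 hx) hq hflI (X.presheaf.stalk (φ.fiberι s x'))
    ((φ.fiber s).presheaf.stalk x') ((φ.fiberι s).stalkMap x').hom (Groth.Agent.S9501.result φ s x').1 hker [h]
    (isRegular_singleton hn hm) (hgen.trans (Ideal.ofList_singleton h).symm)
  obtain ⟨γ, rfl⟩ := List.length_eq_one_iff.1 hlen
  letI : Algebra Γ(X, U) Γ(X, X.basicOpen b) := (X.presheaf.map (homOfLE (X.basicOpen_le b)).op).hom.toAlgebra
  haveI : IsLocalization.Away b Γ(X, X.basicOpen b) := hU.isLocalization_basicOpen b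
  obtain ⟨hreg, heq⟩ := hg Γ(X, X.basicOpen b)
  refine ⟨X.affineBasicOpen (U := ⟨U, hU⟩) b, (AssPointLib.mem_basicOpen_iff hU hxU b).2 hb,
    algebraMap Γ(X, U) Γ(X, X.basicOpen b) γ, ?_, ?_⟩
  · exact nzd_of_isRegular_singleton (T := Γ(X, X.basicOpen b)) (by simpa using hreg)
  · rw [← 𝓘.map_ideal_basicOpen ⟨U, hU⟩ b]
    exact heq.trans (Ideal.ofList_singleton _)

/-- The chart of a locally principal ideal that is Cartier on the fibres. -/
theorem exists_chart_of_locPrincipal [Flat φ] [LocallyOfFinitePresentation φ] (hZ : Curv2.IsLocPrincipal 𝓘)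
    (hfib : ∀ s : ↥S, BlowUp.IsEffCartierIdeal (𝓘.comap (φ.fiberι s))) (x : X) (hx : x ∈ 𝓘.support) :
    ∃ (V : S.Opens) (_ : IsAffineOpen V) (U : X.affineOpens) (hxU : x ∈ U.1) (e : U.1 ≤ φ ⁻¹ᵁ V) (γ : Γ(X, U.1)),
      𝓘.ideal U = Ideal.span {γ} ∧
      (letI := (φ.appLE V U.1 e).hom.toAlgebra
       FibElim Γ(S, V) (U.2.primeIdealOf ⟨x, hxU⟩).asIdeal [γ]) := by
  obtain ⟨U₀, hxU₀, γ₀, hγ₀⟩ := hZ x hx
  obtain ⟨V, hV, hxV, -⟩ := exists_isAffineOpen_mem_and_subset (x := φ x) (U := ⊤) trivial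
  obtain ⟨U, hxU, e, γ, hγ⟩ : ∃ (U : X.affineOpens) (_ : x ∈ U.1) (_ : U.1 ≤ φ ⁻¹ᵁ V) (γ : Γ(X, U.1)),
      𝓘.ideal U = Ideal.span {γ} := by
    obtain ⟨r, hr, hxr⟩ := U₀.2.exists_basicOpen_le (V := φ ⁻¹ᵁ V) ⟨x, hxV⟩ hxU₀
    refine ⟨X.affineBasicOpen r, hxr, hr, (X.presheaf.map (homOfLE (X.basicOpen_le r)).op).hom γ₀, ?_⟩
    rw [← 𝓘.map_ideal_basicOpen U₀ r, hγ₀, Ideal.map_span, Set.image_singleton]
    rfl
  refine ⟨V, hV, U, hxU, e, γ, hγ, ?_⟩
  obtain ⟨s, x', rfl⟩ := exists_point φ x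
  obtain ⟨h, hn, -, hgen⟩ := exists_fibre_gen φ 𝓘 (hfib s) x' U hxU hx
  rw [hγ, Ideal.map_span, Set.image_singleton, Ideal.map_span, Set.image_singleton] at hgen
  have hker := ker_fibre_stalkMap φ x' hV U.2 e hxU
  letI := (φ.appLE V U.1 e).hom.toAlgebra
  letI algU := X.presheaf.algebra_section_stalk (⟨φ.fiberι s x', hxU⟩ : U.1)
  haveI : IsLocalization.AtPrime (X.presheaf.stalk (φ.fiberι s x'))
      (U.2.primeIdealOf ⟨φ.fiberι s x', hxU⟩).asIdeal :=
    U.2.isLocalization_stalk ⟨φ.fiberι s x', hxU⟩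
  refine fibElim_of_nzd _ (X.presheaf.stalk (φ.fiberι s x')) ((φ.fiber s).presheaf.stalk x')
    ((φ.fiberι s).stalkMap x').hom (Groth.Agent.S9501.result φ s x').1 hker _ ?_
  obtain ⟨w, hw⟩ := Ideal.mem_span_singleton.1 (hgen.ge (Ideal.mem_span_singleton_self _))
  refine mem_nonZeroDivisors_iff_left.2 fun z hz => mem_nonZeroDivisors_iff_left.1 hn z ?_
  rw [hw, mul_comm _ w, mul_assoc]
  exact mul_eq_zero_of_right w hz

/-- Relative effective Cartier from locally principal with Cartier fibres. -/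
theorem relEffCartier_of_locPrincipal [Flat φ] [LocallyOfFinitePresentation φ] (hZ : Curv2.IsLocPrincipal 𝓘)
    (hfib : ∀ s : ↥S, BlowUp.IsEffCartierIdeal (𝓘.comap (φ.fiberι s))) :
    BlowUp.IsEffCartierIdeal 𝓘 ∧ Flat (𝓘.subschemeι ≫ φ) := by
  refine ⟨fun x => ?_, Flat.of_stalkMap _ fun z => ?_⟩
  · by_cases hx : x ∈ 𝓘.support
    swap
    · exact exists_top_nhd 𝓘 x hx
    obtain ⟨V, hV, U, hxU, e, γ, hγ, hel⟩ := exists_chart_of_locPrincipal φ 𝓘 hZ hfib x hx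
    have hfp := φ.finitePresentation_appLE hV U.2 e
    have hq := (FlatLib.flat_stalkMap_iff V hV U.1 U.2 e hxU).1 (Flat.stalkMap φ _)
    algebraize [(φ.appLE V U.1 e).hom]
    obtain ⟨b, hb, hb'⟩ := exists_away_regular_of_fibElim _ [γ]
      (fun c hc => by
        rw [List.mem_singleton] at hc
        subst hc
        exact (SDivLib.mem_support_iff_le 𝓘 U hxU).1 hx (hγ ▸ Ideal.mem_span_singleton_self _)) hq hel
    letI : Algebra Γ(X, U.1) Γ(X, X.basicOpen b) := (X.presheaf.map (homOfLE (X.basicOpen_le b)).op).hom.toAlgebra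
    haveI : IsLocalization.Away b Γ(X, X.basicOpen b) := U.2.isLocalization_basicOpen b
    refine ⟨X.affineBasicOpen b, (AssPointLib.mem_basicOpen_iff U.2 hxU b).2 hb,
      algebraMap Γ(X, U.1) Γ(X, X.basicOpen b) γ, ?_, ?_⟩
    · exact nzd_of_isRegular_singleton (T := Γ(X, X.basicOpen b)) (by simpa using hb' b dvd_rfl hb Γ(X, X.basicOpen b))
    · rw [← 𝓘.map_ideal_basicOpen U b, hγ, Ideal.map_span, Set.image_singleton]
      rfl
  · have hx : 𝓘.subschemeι z ∈ 𝓘.support := by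
      rw [← SetLike.mem_coe, ← Scheme.IdealSheafData.range_subschemeι]; exact ⟨z, rfl⟩
    obtain ⟨V, hV, U, hxU, e, γ, hγ, hel⟩ := exists_chart_of_locPrincipal φ 𝓘 hZ hfib _ hx
    have e' : 𝓘.subschemeι ⁻¹ᵁ U.1 ≤ (𝓘.subschemeι ≫ φ) ⁻¹ᵁ V := fun y hy => e hy
    have hU' : IsAffineOpen (𝓘.subschemeι ⁻¹ᵁ U.1) := U.2.preimage 𝓘.subschemeι
    refine (FlatLib.flat_stalkMap_iff V hV _ hU' e' hxU).2 ?_
    have hfp := φ.finitePresentation_appLE hV U.2 e
    have hq := (FlatLib.flat_stalkMap_iff V hV U.1 U.2 e hxU).1 (Flat.stalkMap φ _)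
    have hcomap := IsAffineOpen.comap_primeIdealOf_appLE (f := 𝓘.subschemeι) U.1 U.2
      (𝓘.subschemeι ⁻¹ᵁ U.1) hU' le_rfl hxU
    have happ : (φ.appLE V U.1 e ≫ 𝓘.subschemeι.appLE U.1 (𝓘.subschemeι ⁻¹ᵁ U.1) le_rfl).hom =
        ((𝓘.subschemeι ≫ φ).appLE V _ e').hom := by rw [Scheme.Hom.appLE_comp_appLE]
    algebraize [(φ.appLE V U.1 e).hom, ((𝓘.subschemeι ≫ φ).appLE V _ e').hom,
      (𝓘.subschemeι.appLE U.1 (𝓘.subschemeι ⁻¹ᵁ U.1) le_rfl).hom]
    haveI : IsScalarTower Γ(S, V) Γ(X, U.1) Γ(𝓘.subscheme, 𝓘.subschemeι ⁻¹ᵁ U.1) :=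
      IsScalarTower.of_algebraMap_eq' happ.symm
    have hsurj : Function.Surjective (algebraMap Γ(X, U.1) Γ(𝓘.subscheme, 𝓘.subschemeι ⁻¹ᵁ U.1)) := by
      show Function.Surjective (𝓘.subschemeι.appLE U.1 (𝓘.subschemeι ⁻¹ᵁ U.1) le_rfl).hom
      rw [← Scheme.Hom.app_eq_appLE]
      exact 𝓘.subschemeι_app_surjective U
    refine mem_flatLocus_of_surjective hsurj _ ?_
    have hmemq : γ ∈ (U.2.primeIdealOf ⟨𝓘.subschemeι z, hxU⟩).asIdeal :=
      (SDivLib.mem_support_iff_le 𝓘 U hxU).1 hx (hγ ▸ Ideal.mem_span_singleton_self _)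
    have h1 := (exists_open_step (U.2.primeIdealOf ⟨𝓘.subschemeι z, hxU⟩) [γ]
      (fun c hc => by rw [List.mem_singleton] at hc; subst hc; exact hmemq) hq hel).2 1 le_rfl
    have hker : Ideal.ofList ([γ].take 1) =
        RingHom.ker (Algebra.ofId Γ(X, U.1) Γ(𝓘.subscheme, 𝓘.subschemeι ⁻¹ᵁ U.1)) := by
      show _ = RingHom.ker (𝓘.subschemeι.appLE U.1 (𝓘.subschemeι ⁻¹ᵁ U.1) le_rfl).hom
      rw [← Scheme.Hom.app_eq_appLE, Scheme.IdealSheafData.ker_subschemeι_app 𝓘 U, hγ]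
      simp
    rw [FlatLib.flatLocus_congr (R := Γ(S, V)) (((Ideal.quotientEquivAlgOfEq Γ(X, U.1) hker).trans
      (Ideal.quotientKerAlgEquivOfSurjective (f := Algebra.ofId Γ(X, U.1) _) hsurj)).toLinearEquiv)] at h1
    exact hcomap.symm ▸ h1

/-- A relative effective Cartier divisor has a flat neighbourhood. -/
theorem exists_flat_open_of_effCartier [LocallyOfFinitePresentation φ] (hI : BlowUp.IsEffCartierIdeal 𝓘)
    (hfl : Flat (𝓘.subschemeι ≫ φ)) : ∃ U : X.Opens, (𝓘.support : Set ↥X) ⊆ U ∧ Flat (U.ι ≫ φ) := by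
  have hrel : RegImm.IsRelRegularImmersion RegImm.Kind.h1 φ 𝓘.subschemeι := by
    refine ⟨⟨inferInstance, fun z => ?_⟩, hfl⟩
    obtain ⟨U, hxU, a, ha, hIa⟩ := hI (𝓘.subschemeι z)
    refine ⟨U, hxU, ?_, [a], RegImmKindLib.seq_h1_of_koszul (RegImmKindLib.seq_koszul_of_regular ?_), ?_⟩
    · exact (KRLib.isClosedImmersion_restrict_iff _ U.2).2
        ⟨U.2.preimage 𝓘.subschemeι, 𝓘.subschemeι_app_surjective U⟩
    · refine ⟨(isWeaklyRegular_cons_iff _ a []).2 ⟨isSMulRegular_iff_nzd.2 ha, IsWeaklyRegular.nil _ _⟩, ?_⟩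
      rw [smul_eq_mul, Ideal.mul_top, Ideal.ofList_singleton, ← hIa]
      intro htop
      have hx : 𝓘.subschemeι z ∈ 𝓘.support := by
        rw [← SetLike.mem_coe, ← Scheme.IdealSheafData.range_subschemeι]; exact ⟨z, rfl⟩
      exact (U.2.primeIdealOf ⟨_, hxU⟩).isPrime.ne_top
        (eq_top_iff.2 (htop.le.trans ((SDivLib.mem_support_iff_le 𝓘 U hxU).1 hx)))
    · rw [Scheme.IdealSheafData.ker_subschemeι_app 𝓘 U, hIa, Ideal.ofList_singleton]
  obtain ⟨U, hU, hUfl⟩ := exists_flat_open φ 𝓘.subschemeι fun z => flat_stalkMap_of_h1 φ 𝓘.subschemeι hrel z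
  refine ⟨U, ?_, hUfl⟩
  rw [← Scheme.IdealSheafData.range_subschemeι]
  exact hU

end RelQRegLib
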