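import Groth.Agent.RelQRegLib.Fibres
import Groth.Agent.RelQRegLib.Stage
import Groth.Agent.TransLib.Step
import Groth.Agent.TransLib.RelKoszul
import Mathlib

/-!
# Lifting Koszul-regular sequences with flat quotient along an Artinian thickening
-/

set_option autoImplicit false
set_option linter.style.haveILetI false
set_option backward.isDefEq.respectTransparency.types false

noncomputable section

universe u

open TensorProduct RingTheory.Sequence

namespace RelQRegLib

variable {A' R' : Type u} [CommRing A'] [IsLocalRing A'] [IsArtinianRing A'] [CommRing R'] [Algebra A' R']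
  [IsNoetherianRing R'] [Module.Flat A' R'] (I : Ideal A')

theorem maximal_map_le_prime (q : Ideal R') [q.IsPrime] :
    (IsLocalRing.maximalIdeal A').map (algebraMap A' R') ≤ q := by
  rw [Ideal.map_le_iff_le_comap]
  exact (IsLocalRing.eq_maximalIdeal (IsArtinianRing.isMaximal_of_isPrime _)).ge

/-- Regularity on the closed fibre and the flatness along the lifted sequence, at one prime. -/
theorem regular_at_prime (hI : I ≠ ⊤) {r : ℕ} (f' : Fin r → R')
    (hq : CAlgX.IsQuasiRegular (fun i => Ideal.Quotient.mk (I.map (algebraMap A' R')) (f' i)))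
    (hfl : Module.Flat (A' ⧸ I) ((R' ⧸ I.map (algebraMap A' R')) ⧸
      Ideal.span (Set.range fun i => Ideal.Quotient.mk (I.map (algebraMap A' R')) (f' i))))
    (q : Ideal R') [q.IsPrime] (hJ : Ideal.span (Set.range f') ≤ q) :
    IsWeaklyRegular (Localization.AtPrime q) (List.ofFn fun i => algebraMap R' (Localization.AtPrime q) (f' i)) ∧
      Module.Flat A' (Localization.AtPrime q ⧸
        Ideal.span (Set.range fun i => algebraMap R' (Localization.AtPrime q) (f' i))) := by
  classical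
  let m := IsLocalRing.maximalIdeal A'
  let K := I.map (algebraMap A' R')
  let M := m.map (algebraMap A' R')
  have hIm : I ≤ m := IsLocalRing.le_maximalIdeal hI
  have hKM : K ≤ M := Ideal.map_mono hIm
  have hMq : M ≤ q := maximal_map_le_prime q
  let κ := A' ⧸ m
  letI : Algebra (A' ⧸ I) κ := (Ideal.Quotient.factor hIm).toAlgebra
  letI algM : Algebra κ (R' ⧸ M) := (Ideal.quotientMap M (algebraMap A' R') Ideal.le_comap_map).toAlgebra
  letI algI : Algebra (A' ⧸ I) (R' ⧸ M) := ((algebraMap κ (R' ⧸ M)).comp (algebraMap (A' ⧸ I) κ)).toAlgebra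
  haveI : IsScalarTower (A' ⧸ I) κ (R' ⧸ M) := IsScalarTower.of_algebraMap_eq fun _ => rfl
  let fK : R' ⧸ K →ₐ[A' ⧸ I] R' ⧸ M :=
    { Ideal.Quotient.factor hKM with
      commutes' := fun x => by
        obtain ⟨a, rfl⟩ := Ideal.Quotient.mk_surjective x
        rfl }
  let φ : κ ⊗[A' ⧸ I] (R' ⧸ K) →ₐ[κ] R' ⧸ M :=
    Algebra.TensorProduct.lift (Algebra.ofId κ (R' ⧸ M)) fK fun _ _ => Commute.all _ _
  have hfl' : Module.Flat (A' ⧸ I) ((R' ⧸ K) ⧸ Ideal.span (Set.range fun i => Ideal.Quotient.mk K (f' i))) := hfl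
  have hqκ := QReg16BC.isQuasiRegular_baseChange (f := fun i => Ideal.Quotient.mk K (f' i)) κ hfl' hq
  let ι : R' →+* κ ⊗[A' ⧸ I] (R' ⧸ K) :=
    (Algebra.TensorProduct.includeRight : R' ⧸ K →ₐ[A' ⧸ I] κ ⊗[A' ⧸ I] (R' ⧸ K)).toRingHom.comp (Ideal.Quotient.mk K)
  let ψ : R' ⧸ M →+* κ ⊗[A' ⧸ I] (R' ⧸ K) := Ideal.Quotient.lift M ι fun x hx => by
    have : M ≤ RingHom.ker ι := by
      rw [Ideal.map_le_iff_le_comap]
      intro a ha
      show (1 : κ) ⊗ₜ[A' ⧸ I] algebraMap (A' ⧸ I) (R' ⧸ K) (Ideal.Quotient.mk I a) = 0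
      rw [Algebra.algebraMap_eq_smul_one, ← TensorProduct.smul_tmul, Algebra.smul_def, mul_one]
      show (Ideal.Quotient.factor hIm (Ideal.Quotient.mk I a)) ⊗ₜ[A' ⧸ I] _ = 0
      rw [Ideal.Quotient.factor_mk, Ideal.Quotient.eq_zero_iff_mem.2 ha, TensorProduct.zero_tmul]
    exact this hx
  have hψ : ∀ x, ψ (φ x) = x := fun x => by
    induction x using TensorProduct.induction_on with
    | zero => rw [map_zero, map_zero]
    | add u v hu hv => rw [map_add, map_add, hu, hv]
    | tmul a b =>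
      obtain ⟨a, rfl⟩ := Ideal.Quotient.mk_surjective a
      obtain ⟨b, rfl⟩ := Ideal.Quotient.mk_surjective b
      show ψ (Ideal.Quotient.mk M (algebraMap A' R' a) * Ideal.Quotient.mk M b) = _
      rw [← map_mul]
      show (1 : κ) ⊗ₜ[A' ⧸ I] Ideal.Quotient.mk K (algebraMap A' R' a * b) = _
      rw [map_mul, show Ideal.Quotient.mk K (algebraMap A' R' a) =
        algebraMap (A' ⧸ I) (R' ⧸ K) (Ideal.Quotient.mk I a) from rfl, ← Algebra.smul_def,
        ← TensorProduct.smul_tmul, Algebra.smul_def, mul_one]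
      rfl
  have hφ : Function.Bijective φ := by
    refine ⟨fun u v h => by rw [← hψ u, ← hψ v, h], fun y => ?_⟩
    obtain ⟨b, rfl⟩ := Ideal.Quotient.mk_surjective y
    refine ⟨1 ⊗ₜ Ideal.Quotient.mk K b, ?_⟩
    show Algebra.ofId κ (R' ⧸ M) 1 * fK (Ideal.Quotient.mk K b) = _
    rw [map_one, one_mul]
    rfl
  letI : Algebra (κ ⊗[A' ⧸ I] (R' ⧸ K)) (R' ⧸ M) := φ.toRingHom.toAlgebra
  haveI : Module.Flat (κ ⊗[A' ⧸ I] (R' ⧸ K)) (R' ⧸ M) :=
    RingHom.flat_algebraMap_iff.1 (RingHom.Flat.of_bijective hφ)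
  have hqM : CAlgX.IsQuasiRegular (fun i => Ideal.Quotient.mk M (f' i)) := by
    have h := RegImmKindLib.isQuasiRegular_map (R := R' ⧸ M) hqκ
    have e1 : (fun i => algebraMap (κ ⊗[A' ⧸ I] (R' ⧸ K)) (R' ⧸ M) ((1 : κ) ⊗ₜ[A' ⧸ I] Ideal.Quotient.mk K (f' i))) =
        fun i => Ideal.Quotient.mk M (f' i) := funext fun i => by
      show Algebra.ofId κ (R' ⧸ M) 1 * fK (Ideal.Quotient.mk K (f' i)) = _
      rw [map_one, one_mul]
      rfl
    rwa [e1] at h
  let L := Localization.AtPrime q
  have hmL : m.map (algebraMap A' L) = M.map (algebraMap R' L) := by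
    rw [Ideal.map_map, ← IsScalarTower.algebraMap_eq A' R' L]
  haveI : IsLocalHom (algebraMap A' L) := ⟨fun a ha => by
    by_contra hna
    have h1 : algebraMap R' L (algebraMap A' R' a) ∈ IsLocalRing.maximalIdeal L :=
      (IsLocalization.AtPrime.to_map_mem_maximal_iff L q _ inferInstance).2
        (hMq (Ideal.mem_map_of_mem _ ((IsLocalRing.mem_maximalIdeal a).2 hna)))
    rw [← IsScalarTower.algebraMap_apply] at h1
    exact (IsLocalRing.mem_maximalIdeal _).1 h1 ha⟩
  haveI : Module.Flat R' L := IsLocalization.flat L q.primeCompl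
  haveI : Module.Flat A' L := Module.Flat.trans A' R' L
  let P := M.map (algebraMap R' L)
  letI algP : Algebra (R' ⧸ M) (L ⧸ P) :=
    (Ideal.quotientMap P (algebraMap R' L) Ideal.le_comap_map).toAlgebra
  haveI : Module.Flat (R' ⧸ M) (L ⧸ P) :=
    RingHom.flat_algebraMap_iff.1 (FlatCrit.flat_quotientMap (R := R') (S := L) M)
  have hqL : CAlgX.IsQuasiRegular (fun i => Ideal.Quotient.mk P (algebraMap R' L (f' i))) :=
    (RegImmKindLib.isQuasiRegular_map (Q := R' ⧸ M) (R := L ⧸ P) (f := fun i => Ideal.Quotient.mk M (f' i)) hqM :)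
  have hP : P ≠ ⊤ := by
    intro h
    have h1 : P ≤ IsLocalRing.maximalIdeal L := Ideal.map_le_iff_le_comap.2 fun x hx =>
      (IsLocalization.AtPrime.to_map_mem_maximal_iff L q x inferInstance).2 (hMq hx)
    exact (IsLocalRing.maximalIdeal.isMaximal L).ne_top (top_le_iff.1 (h ▸ h1))
  haveI : Nontrivial (L ⧸ P) := Ideal.Quotient.nontrivial_iff.2 hP
  haveI : IsLocalRing (L ⧸ P) := IsLocalRing.of_surjective' (Ideal.Quotient.mk P) Ideal.Quotient.mk_surjective
  have hwP : IsWeaklyRegular (L ⧸ P) (List.ofFn fun i => Ideal.Quotient.mk P (algebraMap R' L (f' i))) := by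
    refine Groth.Agent.S5803.result (L ⧸ P) r _ (fun i => ?_) hqL
    rw [IsLocalRing.ringJacobson_eq_maximalIdeal, IsLocalRing.mem_maximalIdeal]
    intro hu
    obtain ⟨v, hv⟩ := hu.exists_right_inv
    obtain ⟨v, rfl⟩ := Ideal.Quotient.mk_surjective v
    rw [← map_mul, ← map_one (Ideal.Quotient.mk P), Ideal.Quotient.eq] at hv
    have h1 : algebraMap R' L (f' i) * v ∈ IsLocalRing.maximalIdeal L := Ideal.mul_mem_right _ _
      ((IsLocalization.AtPrime.to_map_mem_maximal_iff L q _ inferInstance).2 (hJ (Ideal.subset_span ⟨i, rfl⟩)))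
    have h2 : P ≤ IsLocalRing.maximalIdeal L := Ideal.map_le_iff_le_comap.2 fun x hx =>
      (IsLocalization.AtPrime.to_map_mem_maximal_iff L q x inferInstance).2 (hMq hx)
    exact (IsLocalRing.maximalIdeal.isMaximal L).ne_top ((Ideal.eq_top_iff_one _).2
      (by simpa using sub_mem h1 (h2 hv)))
  let gL : List L := List.ofFn fun i => algebraMap R' L (f' i)
  have hwM : IsWeaklyRegular (L ⧸ ((IsLocalRing.maximalIdeal A').map (algebraMap A' L) • (⊤ : Submodule L L))) gL := by
    rw [smul_eq_mul, Ideal.mul_top]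
    rw [show (IsLocalRing.maximalIdeal A').map (algebraMap A' L) = P from hmL]
    rw [← isWeaklyRegular_map_algebraMap_iff (S := L ⧸ P)]
    rw [List.map_ofFn]
    exact hwP
  obtain ⟨h1, h2⟩ := TransLib.regular_and_flat (A := A') L gL hwM
  refine ⟨h1, ?_⟩
  have h3 := h2 gL.length le_rfl
  rw [List.take_length, smul_eq_mul, Ideal.mul_top, CILib.ofList_ofFn] at h3
  exact h3

theorem flat_and_koszul_of_lift (hI : I ≠ ⊤) {r : ℕ} (f' : Fin r → R')
    (hq : CAlgX.IsQuasiRegular (fun i => Ideal.Quotient.mk (I.map (algebraMap A' R')) (f' i)))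
    (hfl : Module.Flat (A' ⧸ I) ((R' ⧸ I.map (algebraMap A' R')) ⧸
      Ideal.span (Set.range fun i => Ideal.Quotient.mk (I.map (algebraMap A' R')) (f' i)))) :
    Module.Flat A' (R' ⧸ Ideal.span (Set.range f')) ∧ LCI.IsKoszulRegularSeq R' (List.ofFn f') := by
  classical
  refine ⟨?_, KRLib.isKoszulRegularSeq_of_isExactK f' (TransLib.isExactK_of_local f' fun q _ hJ => ?_)⟩
  · rw [RichLib.FlatColimit.flat_iff_flatLocus_eq_univ (R := A') (S := R') (M := R' ⧸ Ideal.span (Set.range f'))]
    intro q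
    by_cases hJq : Ideal.span (Set.range f') ≤ q.asIdeal
    · obtain ⟨-, h⟩ := regular_at_prime I hI f' hq hfl q.asIdeal hJq
      let L := Localization.AtPrime q.asIdeal
      let e : LocalizedModule q.asIdeal.primeCompl (R' ⧸ Ideal.span (Set.range f')) ≃ₗ[R']
          (L ⧸ (Ideal.span (Set.range f')).map (algebraMap R' L)) :=
        ((LocalizedModule.equivTensorProduct q.asIdeal.primeCompl (R' ⧸ Ideal.span (Set.range f'))).trans
          (Algebra.TensorProduct.quotIdealMapEquivTensorQuot L (Ideal.span (Set.range f'))).symm.toLinearEquiv).restrictScalars R'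
      haveI : Module.Flat A' (L ⧸ (Ideal.span (Set.range f')).map (algebraMap R' L)) := by
        rw [← RegImmKindLib.range_map]; exact h
      exact Module.Flat.of_linearEquiv (e.restrictScalars A')
    · obtain ⟨s, hsJ, hsq⟩ := SetLike.not_le_iff_exists.1 hJq
      haveI : Subsingleton (LocalizedModule q.asIdeal.primeCompl (R' ⧸ Ideal.span (Set.range f'))) :=
        LocalizedModule.subsingleton_iff.mpr fun y => by
          obtain ⟨m, rfl⟩ := Submodule.Quotient.mk_surjective _ y
          exact ⟨s, hsq, by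
            rw [← Submodule.Quotient.mk_smul, Submodule.Quotient.mk_eq_zero, smul_eq_mul]
            exact Ideal.mul_mem_right _ _ hsJ⟩
      show Module.Flat A' _
      infer_instance
  · obtain ⟨h, -⟩ := regular_at_prime I hI f' hq hfl q hJ
    exact KRLib.isExactK_cast (KRLib.isExactK_of_isWeaklyRegular _ h) List.length_ofFn
      fun i => (List.get_ofFn _ i).symm

omit [IsNoetherianRing R'] [Module.Flat A' R'] in
/-- A flat quotient lifting `(f)` is cut out by any lifts lying in it. -/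
theorem eq_span_of_lift (hI : I ≠ ⊤) (J' : Ideal R') (hfl : Module.Flat A' (R' ⧸ J')) {r : ℕ} (f' : Fin r → R')
    (hmem : ∀ i, f' i ∈ J')
    (hmap : J'.map (Ideal.Quotient.mk (I.map (algebraMap A' R'))) =
      Ideal.span (Set.range fun i => Ideal.Quotient.mk (I.map (algebraMap A' R')) (f' i))) :
    J' = Ideal.span (Set.range f') := by
  let J := Ideal.span (Set.range f')
  let K := I.map (algebraMap A' R')
  have hle : J ≤ J' := Ideal.span_le.2 (Set.range_subset_iff.2 hmem)
  have hsup : J' ≤ J ⊔ K * J' := by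
    intro x hx
    have h1 : Ideal.Quotient.mk K x ∈ J.map (Ideal.Quotient.mk K) := by
      have h : (J.map (Ideal.Quotient.mk K)) = J'.map (Ideal.Quotient.mk K) := by
        rw [hmap, Ideal.map_span, ← Set.range_comp]; rfl
      rw [h]; exact Ideal.mem_map_of_mem _ hx
    rw [← Ideal.mem_comap, Ideal.comap_map_of_surjective _ Ideal.Quotient.mk_surjective, ← RingHom.ker_eq_comap_bot,
      Ideal.mk_ker] at h1
    obtain ⟨j, hj, e, he, rfl⟩ := Submodule.mem_sup.1 h1
    have he' : e ∈ J' ⊓ K := ⟨by simpa using sub_mem hx (hle hj), he⟩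
    exact add_mem (Ideal.mem_sup_left hj) (Ideal.mem_sup_right (inf_map_le hfl I he'))
  have hpow : ∀ n : ℕ, J' ≤ J ⊔ K ^ n * J' := by
    intro n
    induction n with
    | zero => simp
    | succ n ih =>
      refine ih.trans (sup_le le_sup_left ?_)
      calc K ^ n * J' ≤ K ^ n * (J ⊔ K * J') := Ideal.mul_mono_right hsup
        _ ≤ J ⊔ K ^ (n + 1) * J' := by
          rw [Ideal.mul_sup, pow_succ, mul_assoc]
          exact sup_le_sup Ideal.mul_le_right le_rfl
  obtain ⟨n, hn⟩ := IsArtinianRing.isNilpotent_jacobson_bot (R := A')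
  refine le_antisymm ((hpow n).trans (sup_le le_rfl ?_)) hle
  have hK : K ^ n = ⊥ := by
    have h1 : I ^ n ≤ (⊥ : Ideal A') := by
      rw [← Ideal.zero_eq_bot, ← hn]
      exact Ideal.pow_right_mono ((IsLocalRing.le_maximalIdeal hI).trans (IsLocalRing.maximalIdeal_le_jacobson _)) n
    rw [← Ideal.map_pow, le_bot_iff.1 h1, Ideal.map_bot]
  rw [hK, Ideal.bot_mul]
  exact bot_le

end RelQRegLib
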