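import Groth.Agent.RelQRegLib.Scheme

/-!
# Base change of relatively quasi-regular and `H₁`-regular immersions
-/

set_option autoImplicit false
set_option linter.style.haveILetI false
set_option backward.isDefEq.respectTransparency.types false

noncomputable section

universe u

open CategoryTheory CategoryTheory.Limits AlgebraicGeometry TensorProduct

namespace RelQRegLib

theorem seq_baseChange {A B A' B' : Type u} [CommRing A] [CommRing B] [CommRing A'] [CommRing B']
    [Algebra A B] [Algebra A A'] [Algebra A' B'] [Algebra B B'] [Algebra A B'] [IsScalarTower A A' B']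
    [IsScalarTower A B B'] [Algebra.IsPushout A A' B B']
    {k : RegImm.Kind} (hk : k = .h1 ∨ k = .quasi)
    (g : List B) (hg : k.Seq B g) (hfl : Module.Flat A (B ⧸ Ideal.ofList g)) :
    k.Seq B' (g.map (algebraMap B B')) := by
  let E : A' ⊗[A] B ≃ₐ[A'] B' := Algebra.IsPushout.equiv A A' B B'
  have hfl' : Module.Flat A (B ⧸ Ideal.span (Set.range g.get)) := by rw [← ofList_eq_span]; exact hfl
  letI : Algebra (A' ⊗[A] B) B' := (E : A' ⊗[A] B →+* B').toAlgebra
  haveI : Module.Flat (A' ⊗[A] B) B' := RingHom.flat_algebraMap_iff.1 (RingHom.Flat.of_bijective E.bijective)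
  have e1 : (fun j => algebraMap (A' ⊗[A] B) B' ((1 : A') ⊗ₜ[A] g.get j)) =
      fun j => algebraMap B B' (g.get j) := funext fun j => by
    show E ((1 : A') ⊗ₜ[A] g.get j) = _
    rw [Algebra.IsPushout.equiv_tmul, map_one, one_mul]
  have hof : g.map (algebraMap B B') = List.ofFn fun j => algebraMap B B' (g.get j) := by
    conv_lhs => rw [← List.ofFn_get g, List.map_ofFn]
    rfl
  rcases hk with rfl | rfl
  · have h := RegImmKindLib.isH1Regular_map (R := B') (QReg16BC.isH1Regular_baseChange (f := g.get) A' hfl' hg)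
    rw [e1] at h
    exact RegImmKindLib.seq_congr_get _ _ (fun f => CAlgX.IsH1Regular f) (hof.symm.trans (List.ofFn_get _).symm) h
  · have h := RegImmKindLib.isQuasiRegular_map (R := B') (QReg16BC.isQuasiRegular_baseChange (f := g.get) A' hfl' hg)
    rw [e1] at h
    exact RegImmKindLib.seq_congr_get _ _ (fun f => CAlgX.IsQuasiRegular f) (hof.symm.trans (List.ofFn_get _).symm) h

theorem isRegularImmersionAt_baseChange_kind {Z X S Z' X' S' : Scheme.{u}} {f : X ⟶ S}
    {k : RegImm.Kind} (hk : k = .h1 ∨ k = .quasi)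
    {i : Z ⟶ X} {g : S' ⟶ S} {p₁ : X' ⟶ X} {p₂ : X' ⟶ S'} (H : IsPullback p₁ p₂ f g)
    {q : Z' ⟶ Z} {i' : Z' ⟶ X'} (hsq : IsPullback q i' i p₁) (z' : Z')
    (hc : Chart k f i (q z')) : RegImm.IsRegularImmersionAt k i' z' := by
  let z := q z'
  have hpz : p₁ (i' z') = i z := by rw [← Scheme.Hom.comp_apply, ← hsq.w, Scheme.Hom.comp_apply]
  obtain ⟨U, V, e, hU, hV, hz, hU', hs, rs, hrs, hker, hfl⟩ := hc
  have hzV : g (p₂ (i' z')) ∈ V := by
    rw [← Scheme.Hom.comp_apply, ← H.w, Scheme.Hom.comp_apply, hpz]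
    exact e hz
  obtain ⟨_, ⟨V', hV', rfl⟩, hzV', hg⟩ := S'.isBasis_affineOpens.exists_subset_of_mem_open hzV (g ⁻¹ᵁ V).2
  let W := p₁ ⁻¹ᵁ U ⊓ p₂ ⁻¹ᵁ V'
  have hW : IsAffineOpen W := RpushLib.isAffineOpen_fibre H hV hV' hg hU e
  have hzW : i' z' ∈ W := ⟨show p₁ (i' z') ∈ U by rw [hpz]; exact hz, hzV'⟩
  have hWU : W ≤ p₁ ⁻¹ᵁ U := inf_le_left
  obtain ⟨h1, h2, h3⟩ := KRLib.baseChange_data hsq hU hU' hs hW hWU
  refine ⟨⟨W, hW⟩, hzW, (KRLib.isClosedImmersion_restrict_iff i' hW).2 ⟨h1, h2⟩,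
    rs.map (p₁.appLE U W hWU).hom, ?_, by rw [h3, hker, Ideal.map_ofList]⟩
  have hpo := RpushLib.isPushout_sections H hV hV' hg hU e
  algebraize [(f.appLE V U e).hom, (g.appLE V V' hg).hom, (p₁.appLE U W hWU).hom,
    (p₂.appLE V' W inf_le_right).hom, ((p₂.appLE V' W inf_le_right).hom.comp (g.appLE V V' hg).hom)]
  haveI : IsScalarTower Γ(S, V) Γ(X, U) Γ(X', W) :=
    IsScalarTower.of_algebraMap_eq' (congrArg CommRingCat.Hom.hom hpo.w).symm
  haveI : Algebra.IsPushout Γ(S, V) Γ(X, U) Γ(S', V') Γ(X', W) :=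
    CommRingCat.isPushout_iff_isPushout.mp hpo
  haveI : Algebra.IsPushout Γ(S, V) Γ(S', V') Γ(X, U) Γ(X', W) := Algebra.IsPushout.symm inferInstance
  exact seq_baseChange (A := Γ(S, V)) (A' := Γ(S', V')) (B := Γ(X, U)) hk rs hrs hfl

/-- Relatively quasi-regular and `H₁`-regular immersions are stable under base change. -/
theorem isRel_baseChange {Z X S Z' X' S' : Scheme.{u}} {f : X ⟶ S}
    {k : RegImm.Kind} (hk : k = .h1 ∨ k = .quasi)
    {i : Z ⟶ X} {g : S' ⟶ S} {p₁ : X' ⟶ X} {p₂ : X' ⟶ S'} (H : IsPullback p₁ p₂ f g)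
    {q : Z' ⟶ Z} {i' : Z' ⟶ X'} (hsq : IsPullback q i' i p₁)
    (hi : RegImm.IsRelRegularImmersion k f i) : RegImm.IsRelRegularImmersion k p₂ i' := by
  haveI := hi.1.1
  haveI := hi.2
  refine ⟨⟨MorphismProperty.of_isPullback hsq inferInstance, fun z' =>
    isRegularImmersionAt_baseChange_kind hk H hsq z'
      (exists_chart _ (by rcases hk with rfl | rfl <;> decide) f i hi _)⟩, ?_⟩
  exact MorphismProperty.of_isPullback (hsq.paste_vert H) inferInstance

end RelQRegLib
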