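import Groth.Agent.RelQRegLib.Scheme
import Groth.Agent.CILib.MinGen
import Groth.Agent.S9501
import Groth.Agent.S5802
import Groth.Agent.RegImmKindLib.Codim
import Mathlib

/-!
# Relative quasi-regularity from the fibres
-/

set_option autoImplicit false
set_option linter.style.haveILetI false
set_option backward.isDefEq.respectTransparency.types false

noncomputable section

universe u

open CategoryTheory CategoryTheory.Limits AlgebraicGeometry TensorProduct RingTheory.Sequence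

namespace RelQRegLib

variable {A B : Type u} [CommRing A] [CommRing B] [Algebra A B]

/-- An ideal with flat quotient meets the extended ideals in products. -/
theorem inf_map_le {I : Ideal B} (hfl : Module.Flat A (B ⧸ I)) (p : Ideal A) :
    I ⊓ p.map (algebraMap A B) ≤ p.map (algebraMap A B) * I := by
  rintro x ⟨hxI, hxp⟩
  let ι : I →ₗ[A] B := (Submodule.subtype I).restrictScalars A
  haveI := hfl
  have hinj : Function.Injective (ι.lTensor (A ⧸ p)) :=
    PDLib.lTensor_injective_of_flat (A ⧸ p) ι ((Submodule.mkQ I).restrictScalars A) Subtype.val_injective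
      (LinearMap.exact_subtype_mkQ I) (Submodule.mkQ_surjective I)
  have hp : x ∈ p • (⊤ : Submodule A B) := by
    rw [Ideal.smul_top_eq_map]; exact hxp
  have h0 : (1 : A ⧸ p) ⊗ₜ[A] (⟨x, hxI⟩ : I) = 0 := by
    refine hinj ?_
    rw [map_zero, LinearMap.lTensor_tmul]
    refine (TensorProduct.quotTensorEquivQuotSMul B p).injective ?_
    rw [map_zero]
    show Submodule.Quotient.mk (_ : B) = 0
    rw [Submodule.Quotient.mk_eq_zero]
    simpa [ι] using hp
  have h1 := congrArg (TensorProduct.quotTensorEquivQuotSMul I p) h0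
  rw [map_zero] at h1
  have h2 : (⟨x, hxI⟩ : I) ∈ p • (⊤ : Submodule A I) :=
    (Submodule.Quotient.mk_eq_zero _).1 (Eq.trans (by simp) h1)
  suffices h : ∀ y ∈ p • (⊤ : Submodule A I), (y : B) ∈ p.map (algebraMap A B) * I from h _ h2
  intro y hy
  refine Submodule.smul_induction_on hy (fun a ha w _ => ?_) (fun u v hu hv => add_mem hu hv)
  show a • (w : B) ∈ _
  rw [Algebra.smul_def]
  exact Ideal.mul_mem_mul (Ideal.mem_map_of_mem _ ha) w.2

/-- An ideal with flat quotient whose image in the fibre is generated by a regular sequence is, near the point,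
generated by a regular sequence. -/
theorem exists_away_regular_of_fibre [Algebra.FinitePresentation A B] (q : Ideal B) [q.IsPrime] (I : Ideal B)
    (hI : I.FG) (hIq : I ≤ q) (hflat : (⟨q, inferInstance⟩ : PrimeSpectrum B) ∈ FlatLib.flatLocus A B B)
    (hfl : Module.Flat A (B ⧸ I)) (O T : Type u) [CommRing O] [CommRing T] [Algebra B O]
    [IsLocalization.AtPrime O q] [IsNoetherianRing T] [IsLocalRing T] (π : O →+* T) (hπ : Function.Surjective π)
    (hker : RingHom.ker π = ((q.comap (algebraMap A B)).map (algebraMap A B)).map (algebraMap B O))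
    (rs : List T) (hrs : IsRegular T rs) (he : (I.map (algebraMap B O)).map π = Ideal.ofList rs) :
    ∃ (g : List B) (b : B), g.length = rs.length ∧ b ∉ q ∧ ∀ (L : Type u) [CommRing L] [Algebra B L] [IsLocalization.Away b L],
      IsRegular L (g.map (algebraMap B L)) ∧ I.map (algebraMap B L) = Ideal.ofList (g.map (algebraMap B L)) := by
  classical
  haveI : IsLocalRing O := IsLocalization.AtPrime.isLocalRing O q
  let ρ : B →+* T := π.comp (algebraMap B O)
  have hlift : ∀ j : Fin rs.length, ∃ a ∈ I, ∃ u : T, IsUnit u ∧ rs.get j * u = ρ a := fun j => by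
    have hj : rs.get j ∈ (I.map (algebraMap B O)).map π := by
      rw [he]; exact Ideal.subset_span (List.get_mem rs j)
    obtain ⟨y, hy, hyj⟩ := (Ideal.mem_map_iff_of_surjective π hπ).1 hj
    obtain ⟨⟨a, s⟩, ha⟩ := (IsLocalization.mem_map_algebraMap_iff q.primeCompl O).1 hy
    refine ⟨a, a.2, π (algebraMap B O s), (IsLocalization.map_units O s).map π, ?_⟩
    rw [← hyj, ← map_mul]
    exact congrArg π ha
  choose γ hγI u hu hγ using hlift
  let g : List B := List.ofFn γ
  have hgI : ∀ b ∈ g, b ∈ I := fun b hb => by obtain ⟨j, rfl⟩ := List.mem_ofFn.1 hb; exact hγI j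
  have hgρ : g.map ρ = List.ofFn fun j => ρ (γ j) := List.map_ofFn
  have hspan : Ideal.span (Set.range fun j => ρ (γ j)) = Ideal.span (Set.range rs.get) := by
    refine le_antisymm (Ideal.span_le.2 ?_) (Ideal.span_le.2 ?_) <;> rintro _ ⟨j, rfl⟩
    · show ρ (γ j) ∈ _
      rw [← hγ j]; exact Ideal.mul_mem_right _ _ (Ideal.subset_span ⟨j, rfl⟩)
    · refine (Ideal.mul_unit_mem_iff_mem _ (hu j)).1 ?_
      rw [hγ j]; exact Ideal.subset_span ⟨j, rfl⟩
  have hregT : IsRegular T (g.map ρ) := by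
    rw [hgρ]
    exact CILib.isRegular_of_span_eq rs.length T rs.get _ (by rw [List.ofFn_get]; exact hrs) hspan
  let p := q.comap (algebraMap A B)
  have hkill : ∀ y ∈ p.map (algebraMap A B), ρ y = 0 := fun y hy => by
    have : algebraMap B O y ∈ RingHom.ker π := by rw [hker]; exact Ideal.mem_map_of_mem _ hy
    exact this
  have hrefl : ∀ (K : Ideal B) (m : B), ρ m ∈ K.map ρ → ∃ t ∉ q, t * m ∈ p.map (algebraMap A B) ⊔ K := by
    intro K m hm
    rw [show K.map ρ = (K.map (algebraMap B O)).map π from (Ideal.map_map _ _).symm,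
      show ρ m = π (algebraMap B O m) from rfl, ← Ideal.mem_comap, Ideal.comap_map_of_surjective π hπ,
      ← RingHom.ker_eq_comap_bot, hker, ← Ideal.map_sup,
      IsLocalization.algebraMap_mem_map_algebraMap_iff q.primeCompl] at hm
    obtain ⟨t, ht, htm⟩ := hm
    exact ⟨t, ht, by rw [sup_comm]; exact htm⟩
  have hfib : FibElim A q g := fun i hi m h => by
    obtain ⟨t, ht, hmem⟩ := h
    refine hrefl _ m ?_
    obtain ⟨y, hy, z, hz, hyz⟩ := Submodule.mem_sup.1 hmem
    have h1 : ρ g[i] * ρ m ∈ (Ideal.ofList (g.take i)).map ρ := by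
      have h2 : ρ t * (ρ g[i] * ρ m) ∈ (Ideal.ofList (g.take i)).map ρ := by
        rw [← map_mul, ← map_mul, ← hyz, map_add, hkill y hy, zero_add]
        exact Ideal.mem_map_of_mem _ hz
      exact (Ideal.unit_mul_mem_iff_mem _ ((IsLocalization.map_units O (⟨t, ht⟩ : q.primeCompl)).map π)).1 h2
    have hi' : i < (g.map ρ).length := by rw [List.length_map]; exact hi
    have hJ : Ideal.ofList ((g.map ρ).take i) • (⊤ : Submodule T T) = (Ideal.ofList (g.take i)).map ρ := by
      rw [smul_eq_mul, Ideal.mul_top, ← List.map_take, ← Ideal.map_ofList]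
    rw [← hJ]
    refine mem_of_isSMulRegular_quotient_of_smul_mem (hregT.toIsWeaklyRegular.regular_mod_prev i hi') ?_
    rw [hJ, smul_eq_mul, List.getElem_map]
    exact h1
  -- the sequence generates the ideal at the prime
  have hle : Ideal.ofList g ≤ I := Ideal.span_le.2 hgI
  have hNak : I.map (algebraMap B O) ≤ (Ideal.ofList g).map (algebraMap B O) := by
    refine Submodule.le_of_le_smul_of_le_jacobson_bot (I := IsLocalRing.maximalIdeal O) (hI.map _)
      (IsLocalRing.maximalIdeal_le_jacobson _) ?_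
    rw [Ideal.map_le_iff_le_comap]
    intro x hx
    have h1 : ρ x ∈ (Ideal.ofList g).map ρ := by
      rw [Ideal.map_ofList, hgρ, CILib.ofList_ofFn, hspan, ← ofList_eq_span, ← he]
      exact Ideal.mem_map_of_mem π (Ideal.mem_map_of_mem _ hx)
    obtain ⟨t, ht, htx⟩ := hrefl _ x h1
    obtain ⟨y, hy, z, hz, hyz⟩ := Submodule.mem_sup.1 htx
    have hyI : y ∈ p.map (algebraMap A B) * I := inf_map_le hfl p
      ⟨by rw [show y = t * x - z from eq_sub_of_add_eq hyz]; exact sub_mem (Ideal.mul_mem_left _ _ hx) (hle hz), hy⟩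
    rw [Ideal.mem_comap, ← Ideal.unit_mul_mem_iff_mem _ (IsLocalization.map_units O (⟨t, ht⟩ : q.primeCompl)),
      ← map_mul, ← hyz, map_add, smul_eq_mul]
    refine add_mem (Ideal.mem_sup_right ?_) (Ideal.mem_sup_left (Ideal.mem_map_of_mem _ hz))
    have h5 := Ideal.mem_map_of_mem (algebraMap B O) hyI
    rw [Ideal.map_mul] at h5
    refine Ideal.mul_mono_left ?_ h5
    rw [Ideal.map_le_iff_le_comap]
    intro w hw
    exact (IsLocalization.AtPrime.to_map_mem_maximal_iff O q w inferInstance).2 (Ideal.map_comap_le hw)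
  obtain ⟨G, hG⟩ := hI
  have hgen : ∀ x ∈ G, ∃ t ∉ q, t * x ∈ Ideal.ofList g := fun x hx => by
    have h := hNak (Ideal.mem_map_of_mem _ (hG ▸ Ideal.subset_span hx : x ∈ I))
    rwa [IsLocalization.algebraMap_mem_map_algebraMap_iff q.primeCompl] at h
  choose t ht htx using hgen
  let b' : B := ∏ x ∈ G.attach, t x.1 x.2
  have hb' : b' ∉ q := prod_mem (S := q.primeCompl) fun x _ => ht x.1 x.2
  obtain ⟨b, hb, hreg⟩ := exists_away_regular_of_fibElim q g (fun b hb => hIq (hgI b hb)) hflat hfib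
  refine ⟨g, b * b', List.length_ofFn, q.primeCompl.mul_mem hb hb', fun L _ _ _ =>
    ⟨hreg (b * b') ⟨b', rfl⟩ (q.primeCompl.mul_mem hb hb') L, le_antisymm ?_ ?_⟩⟩
  · rw [← Ideal.map_ofList, ← hG, Ideal.map_span, Ideal.span_le]
    rintro _ ⟨x, hx, rfl⟩
    have hub : IsUnit (algebraMap B L b') := by
      have h := IsLocalization.Away.algebraMap_isUnit (S := L) (b * b')
      rw [map_mul] at h
      exact (IsUnit.mul_iff.1 h).2
    refine (Ideal.unit_mul_mem_iff_mem _ hub).1 ?_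
    rw [← map_mul]
    refine Ideal.mem_map_of_mem _ ?_
    obtain ⟨d, hd⟩ := Finset.dvd_prod_of_mem (fun x : {x // x ∈ G} => t x.1 x.2) (Finset.mem_attach G ⟨x, hx⟩)
    rw [show b' = t x hx * d from hd, mul_right_comm]
    exact Ideal.mul_mem_right _ _ (htx x hx)
  · rw [← Ideal.map_ofList]
    exact Ideal.map_mono hle

/-- Flatness of sections from flatness of stalks. -/
theorem flat_appLE_of_stalks {Z S : Scheme.{u}} (h : Z ⟶ S) {V : S.Opens} (hV : IsAffineOpen V) {W : Z.Opens}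
    (hW : IsAffineOpen W) (e : W ≤ h ⁻¹ᵁ V) (hst : ∀ x ∈ W, (h.stalkMap x).hom.Flat) : (h.appLE V W e).hom.Flat := by
  algebraize [(h.appLE V W e).hom]
  refine RingHom.flat_algebraMap_iff.2
    ((RichLib.FlatColimit.flat_iff_flatLocus_eq_univ (R := Γ(S, V)) (S := Γ(Z, W)) (M := Γ(Z, W))).2 fun q => ?_)
  have hx : hW.fromSpec q ∈ W := RegImmKindLib.fromSpec_mem hW q
  have h1 := (FlatLib.flat_stalkMap_iff V hV W hW e hx).1 (hst _ hx)
  rwa [RegImmKindLib.primeIdealOf_fromSpec hW q] at h1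

/-- Regularity near a point of a closed subscheme, flat at the point, from regularity in its fibre. -/
theorem regularAt_of_fibre {Z X S : Scheme.{u}} (φ : X ⟶ S) [LocallyOfFinitePresentation φ]
    (ι : Z ⟶ X) [IsClosedImmersion ι] [LocallyOfFinitePresentation (ι ≫ φ)] (z : Z)
    (hflat : (φ.stalkMap (ι z)).hom.Flat) (hflZ : ((ι ≫ φ).stalkMap z).hom.Flat) {s : S} {Z' : Scheme.{u}}
    {q : Z' ⟶ Z} {i' : Z' ⟶ φ.fiber s} (hsq : IsPullback q i' ι (φ.fiberι s)) (z' : Z') (hz'1 : q z' = z)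
    (hfib : RegImm.IsRegularImmersionAt RegImm.Kind.quasi i' z') :
    RegImm.IsRegularImmersionAt RegImm.Kind.regular ι z := by
  obtain ⟨_, ⟨V, hV, rfl⟩, hzV, -⟩ :=
    S.isBasis_affineOpens.exists_subset_of_mem_open (Set.mem_univ (φ (ι z))) isOpen_univ
  obtain ⟨O, hO, hOZ⟩ := ι.isClosedEmbedding.isInducing.isOpen_iff.1 (FlatLib.isOpen_setOf_flat_stalkMap (ι ≫ φ))
  have hzO : ι z ∈ O := hOZ.ge hflZ
  obtain ⟨_, ⟨U, hU, rfl⟩, hzU, hUle⟩ := X.isBasis_affineOpens.exists_subset_of_mem_open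
    (show ι z ∈ ((φ ⁻¹ᵁ V).carrier ∩ O) from ⟨hzV, hzO⟩) ((φ ⁻¹ᵁ V).2.inter hO)
  have e : U ≤ φ ⁻¹ᵁ V := fun x hx => (hUle hx).1
  have hU' : IsAffineOpen (ι ⁻¹ᵁ U) := IsAffineOpen.preimage hU ι
  have hs : Function.Surjective (ι.app U) := ι.app_surjective U hU
  haveI : IsClosedImmersion i' := MorphismProperty.of_isPullback hsq inferInstance
  haveI : LocallyOfFiniteType (φ.fiberToSpecResidueField s) :=
    MorphismProperty.pullback_snd (P := @LocallyOfFiniteType) _ _ inferInstance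
  haveI : IsLocallyNoetherian (φ.fiber s) :=
    LocallyOfFiniteType.isLocallyNoetherian (φ.fiberToSpecResidueField s)
  obtain ⟨rs, hrs, hker⟩ := (RegImmKindLib.isRegularImmersionAt_iff i' RegImm.Kind.quasi z').1 hfib
  -- stalks
  let x' := i' z'
  have hx' : φ.fiberι s x' = ι z := by
    rw [← hz'1, ← Scheme.Hom.comp_apply, ← Scheme.Hom.comp_apply, hsq.w]
  have hx'U : φ.fiberι s x' ∈ U := by rw [hx']; exact hzU
  obtain ⟨_, ⟨W, hW, rfl⟩, hxW, hWU⟩ :=
    (φ.fiber s).isBasis_affineOpens.exists_subset_of_mem_open hx'U ((φ.fiberι s) ⁻¹ᵁ U).2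
  obtain ⟨hW', hWs, hWker⟩ := KRLib.baseChange_data hsq hU hU' hs hW hWU
  letI algW := (φ.fiber s).presheaf.algebra_section_stalk (⟨x', hxW⟩ : W)
  obtain ⟨hk', -⟩ := RegImmKindLib.ker_stalkMap i' hW hW' hWs z' hxW
  letI algU := X.presheaf.algebra_section_stalk (⟨φ.fiberι s x', hx'U⟩ : U)
  let π := ((φ.fiberι s).stalkMap x').hom
  haveI : IsLocalization.AtPrime (X.presheaf.stalk (φ.fiberι s x')) (hU.primeIdealOf ⟨φ.fiberι s x', hx'U⟩).asIdeal :=
    hU.isLocalization_stalk ⟨φ.fiberι s x', hx'U⟩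
  haveI : IsNoetherianRing ((φ.fiber s).presheaf.stalk x') := inferInstance
  obtain ⟨hπs, hπk⟩ := Groth.Agent.S9501.result φ s x'
  have hfp := φ.finitePresentation_appLE hV hU e
  have hq := (FlatLib.flat_stalkMap_iff V hV U hU e hx'U).1 (by rw [hx']; exact hflat)
  have hIq : RingHom.ker (ι.app U).hom ≤ (hU.primeIdealOf ⟨φ.fiberι s x', hx'U⟩).asIdeal := by
    rw [show (⟨φ.fiberι s x', hx'U⟩ : U) = ⟨ι z, hzU⟩ from Subtype.ext hx']
    exact prime_data ι hU hU' hs z hzU
  have e' : ι ⁻¹ᵁ U ≤ (ι ≫ φ) ⁻¹ᵁ V := ι.preimage_mono e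
  have hflZ' := flat_appLE_of_stalks (ι ≫ φ) hV hU' e' fun x hx => hOZ.le (hUle hx).2
  have hfpZ := (ι ≫ φ).finitePresentation_appLE hV hU' e'
  algebraize [(φ.appLE V U e).hom, ((ι ≫ φ).appLE V _ e').hom]
  let πι : Γ(X, U) →ₐ[Γ(S, V)] Γ(Z, ι ⁻¹ᵁ U) :=
    { (ι.app U).hom with
      commutes' := fun r => by
        show (φ.appLE V U e ≫ ι.app U).hom r = ((ι ≫ φ).appLE V _ e').hom r
        rw [Scheme.Hom.app_eq_appLE, Scheme.Hom.appLE_comp_appLE] }
  have hIfg : (RingHom.ker (ι.app U).hom).FG := Algebra.FinitePresentation.ker_fG_of_surjective πι hs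
  have hIfl : Module.Flat Γ(S, V) (Γ(X, U) ⧸ RingHom.ker (ι.app U).hom) :=
    Module.Flat.of_linearEquiv (Ideal.quotientKerAlgEquivOfSurjective (f := πι) hs).toLinearEquiv
  have hπker : RingHom.ker π = (((hU.primeIdealOf ⟨φ.fiberι s x', hx'U⟩).asIdeal.comap
      (algebraMap Γ(S, V) Γ(X, U))).map (algebraMap Γ(S, V) Γ(X, U))).map
        (algebraMap Γ(X, U) (X.presheaf.stalk (φ.fiberι s x'))) := by
    rw [hπk, Ideal.map_map]
    let v : V := ⟨φ (φ.fiberι s x'), e hx'U⟩
    letI algV := S.presheaf.algebra_section_stalk v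
    haveI : IsLocalization.AtPrime (S.presheaf.stalk (φ (φ.fiberι s x'))) (hV.primeIdealOf v).asIdeal :=
      hV.isLocalization_stalk v
    have hp : (hU.primeIdealOf ⟨φ.fiberι s x', hx'U⟩).asIdeal.comap (algebraMap Γ(S, V) Γ(X, U)) =
        (hV.primeIdealOf v).asIdeal :=
      congr($(IsAffineOpen.comap_primeIdealOf_appLE (f := φ) V hV U hU e hx'U).1)
    rw [hp, ← IsLocalization.AtPrime.map_eq_maximalIdeal (hV.primeIdealOf v).asIdeal
      (S.presheaf.stalk (φ (φ.fiberι s x'))), Ideal.map_map]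
    congr 1
    show (S.presheaf.germ V _ _ ≫ φ.stalkMap (φ.fiberι s x')).hom = (φ.appLE V U e ≫ X.presheaf.germ U _ hx'U).hom
    rw [Scheme.Hom.germ_stalkMap, Scheme.Hom.appLE, Category.assoc, TopCat.Presheaf.germ_res]
  have he : ((RingHom.ker (ι.app U).hom).map (algebraMap Γ(X, U) (X.presheaf.stalk (φ.fiberι s x')))).map π =
      Ideal.ofList rs := by
    rw [← hker, hk', hWker, Ideal.map_map, Ideal.map_map]
    congr 1
    show (X.presheaf.germ U _ hx'U ≫ (φ.fiberι s).stalkMap x').hom =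
      ((φ.fiberι s).appLE U W hWU ≫ (φ.fiber s).presheaf.germ W x' hxW).hom
    rw [Scheme.Hom.germ_stalkMap, Scheme.Hom.appLE, Category.assoc, TopCat.Presheaf.germ_res]
  obtain ⟨g, b, -, hb, hg⟩ := exists_away_regular_of_fibre _ _ hIfg hIq hq hIfl (X.presheaf.stalk (φ.fiberι s x'))
    ((φ.fiber s).presheaf.stalk x') π hπs hπker rs hrs he
  rw [show (⟨φ.fiberι s x', hx'U⟩ : U) = ⟨ι z, hzU⟩ from Subtype.ext hx'] at hb
  obtain ⟨h1, h2, h3⟩ := KRLib.basicOpen_data ι hU hU' hs b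
  letI : Algebra Γ(X, U) Γ(X, X.basicOpen b) :=
    (X.presheaf.map (homOfLE (X.basicOpen_le b)).op).hom.toAlgebra
  haveI : IsLocalization.Away b Γ(X, X.basicOpen b) := hU.isLocalization_basicOpen b
  obtain ⟨hreg, hgenI⟩ := hg Γ(X, X.basicOpen b)
  refine ⟨⟨X.basicOpen b, hU.basicOpen b⟩, ?_,
    (KRLib.isClosedImmersion_restrict_iff ι (hU.basicOpen b)).2 ⟨h1, h2⟩, _, hreg, h3.trans hgenI⟩
  show ι z ∈ X.basicOpen b
  rw [show ι z = hU.fromSpec (hU.primeIdealOf ⟨ι z, hzU⟩) from (hU.fromSpec_primeIdealOf ⟨ι z, hzU⟩).symm]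
  show hU.primeIdealOf ⟨ι z, hzU⟩ ∈ hU.fromSpec ⁻¹ᵁ X.basicOpen b
  rw [hU.fromSpec_preimage_basicOpen b]
  exact hb

/-- A flat closed subscheme that is quasi-regular on every fibre is relatively quasi-regular. -/
theorem isRel_of_fibres_flatAt {Z X S : Scheme.{u}} (φ : X ⟶ S) [LocallyOfFinitePresentation φ]
    (ι : Z ⟶ X) [IsClosedImmersion ι] [Flat (ι ≫ φ)] [LocallyOfFinitePresentation (ι ≫ φ)]
    (hflat : ∀ z : Z, (φ.stalkMap (ι z)).hom.Flat)
    (hfib : ∀ s : ↥S, RegImm.IsRegularImmersion RegImm.Kind.quasi (pullback.snd ι (φ.fiberι s))) :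
    RegImm.IsRelRegularImmersion RegImm.Kind.quasi φ ι := by
  refine ⟨⟨inferInstance, fun z => ?_⟩, inferInstance⟩
  obtain ⟨z', hz'1, -⟩ := Scheme.Pullback.exists_preimage_pullback (f := ι) (g := φ.fiberι (φ (ι z))) z
    (φ.asFiber (ι z)) (φ.fiberι_asFiber (ι z)).symm
  obtain ⟨U, hU, hcl, rs, hrs, hker⟩ := regularAt_of_fibre φ ι z (hflat z) (Flat.stalkMap _ z)
    (IsPullback.of_hasPullback ι (φ.fiberι (φ (ι z)))) z' hz'1 ((hfib _).2 z')
  exact ⟨U, hU, hcl, rs, Groth.Agent.S5802.result _ _ _ (by rw [List.ofFn_get]; exact hrs.toIsWeaklyRegular), hker⟩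

/-- A flat closed subscheme of a flat scheme that is quasi-regular on every fibre is relatively quasi-regular. -/
theorem isRel_of_fibres {Z X S : Scheme.{u}} (φ : X ⟶ S) [Flat φ] [LocallyOfFinitePresentation φ]
    (ι : Z ⟶ X) [IsClosedImmersion ι] [Flat (ι ≫ φ)] [LocallyOfFinitePresentation (ι ≫ φ)]
    (hfib : ∀ s : ↥S, RegImm.IsRegularImmersion RegImm.Kind.quasi (pullback.snd ι (φ.fiberι s))) :
    RegImm.IsRelRegularImmersion RegImm.Kind.quasi φ ι :=
  isRel_of_fibres_flatAt φ ι (fun _ => Flat.stalkMap φ _) hfib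

end RelQRegLib
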