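import Groth.Agent.QReg16Lib.BaseChange
import Groth.Agent.FlatCrit.Quotient
import Groth.Agent.RegImmKindLib.Mor
import Groth.Agent.RegImmKindLib.KindFlat
import Mathlib

/-!
# Flatness along relatively quasi-regular immersions
-/

set_option autoImplicit false
set_option linter.style.haveILetI false
set_option backward.isDefEq.respectTransparency.types false

noncomputable section

universe u

open CategoryTheory AlgebraicGeometry

namespace RelQRegLib

/-- A noetherian algebra is flat over the base as soon as it is so modulo a quasi-regular sequence in the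
Jacobson radical. -/
theorem flat_of_quasiRegular {A B : Type u} [CommRing A] [CommRing B] [Algebra A B] [IsNoetherianRing B]
    {r : ℕ} (f : Fin r → B) (hf : CAlgX.IsQuasiRegular f)
    (hJ : Ideal.span (Set.range f) ≤ Ideal.jacobson ⊥)
    (hflat : Module.Flat A (B ⧸ Ideal.span (Set.range f))) : Module.Flat A B := by
  refine FlatCrit.flat_of_forall_flat_quotient (Ideal.span (Set.range f)) hJ fun n => ?_
  rw [smul_eq_mul, Ideal.mul_top]
  exact QReg16BC.flat_pow f hf hflat n

theorem ofList_eq_span {R : Type u} [CommRing R] (rs : List R) :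
    Ideal.ofList rs = Ideal.span (Set.range rs.get) := by
  rw [Ideal.ofList, Set.range_list_get]

/-- Flatness of the stalks along a relatively quasi-regular immersion. -/
theorem flat_stalkMap {Z X S : Scheme.{u}} (f : X ⟶ S) (i : Z ⟶ X)
    (hi : RegImm.IsRelRegularImmersion RegImm.Kind.quasi f i) (z : ↥Z)
    [IsNoetherianRing ↑(X.presheaf.stalk (i z))] : (f.stalkMap (i z)).hom.Flat := by
  obtain ⟨⟨himm, hall⟩, hflat⟩ := hi
  obtain ⟨⟨U, hU⟩, hzU, hcl, rs, hrs, hker⟩ := hall z
  obtain ⟨hV, hs⟩ := (KRLib.isClosedImmersion_restrict_iff i hU).1 hcl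
  obtain ⟨hk1, -⟩ := RegImmKindLib.ker_stalkMap i hU hV hs z hzU
  letI := X.presheaf.algebra_section_stalk (⟨i z, hzU⟩ : U)
  haveI : IsLocalization.AtPrime (X.presheaf.stalk (i z)) (hU.primeIdealOf ⟨i z, hzU⟩).asIdeal :=
    hU.isLocalization_stalk ⟨i z, hzU⟩
  haveI : Module.Flat Γ(X, U) (X.presheaf.stalk (i z)) :=
    IsLocalization.flat _ (hU.primeIdealOf ⟨i z, hzU⟩).asIdeal.primeCompl
  let g : Fin rs.length → X.presheaf.stalk (i z) :=
    fun j => algebraMap Γ(X, U) (X.presheaf.stalk (i z)) (rs.get j)
  have hg : CAlgX.IsQuasiRegular g := RegImmKindLib.isQuasiRegular_map hrs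
  have hspan : Ideal.span (Set.range g) = RingHom.ker (i.stalkMap z).hom := by
    rw [hk1, hker, ofList_eq_span]
    exact RegImmKindLib.range_map rs.get
  haveI := hflat
  letI algB : Algebra (S.presheaf.stalk (f (i z))) (X.presheaf.stalk (i z)) := (f.stalkMap (i z)).hom.toAlgebra
  letI algC : Algebra (S.presheaf.stalk (f (i z))) (Z.presheaf.stalk z) :=
    ((i.stalkMap z).hom.comp (f.stalkMap (i z)).hom).toAlgebra
  haveI hC : Module.Flat (S.presheaf.stalk (f (i z))) (Z.presheaf.stalk z) := by
    have h1 := Flat.stalkMap (i ≫ f) z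
    rw [Scheme.Hom.stalkMap_comp] at h1
    exact h1
  let π : X.presheaf.stalk (i z) →ₐ[S.presheaf.stalk (f (i z))] Z.presheaf.stalk z :=
    { (i.stalkMap z).hom with commutes' := fun _ => rfl }
  haveI := himm
  have hπ : Function.Surjective π := i.stalkMap_surjective z
  have hq : Module.Flat (S.presheaf.stalk (f (i z))) (X.presheaf.stalk (i z) ⧸ Ideal.span (Set.range g)) :=
    Module.Flat.of_linearEquiv
      ((Ideal.quotientEquivAlgOfEq (S.presheaf.stalk (f (i z)))
        (show Ideal.span (Set.range g) = RingHom.ker π from hspan)).trans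
        (Ideal.quotientKerAlgEquivOfSurjective hπ)).toLinearEquiv
  refine flat_of_quasiRegular g hg ?_ hq
  rw [hspan, IsLocalRing.jacobson_eq_maximalIdeal ⊥ bot_ne_top]
  exact IsLocalRing.le_maximalIdeal (RingHom.ker_ne_top _)

end RelQRegLib
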