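import Groth.Agent.RelQRegLib.Flat
import Groth.Agent.TransLib.PointSeq
import Groth.Agent.FlatLib.SchemeFlat
import Groth.Agent.S5803
import Mathlib

/-!
# A quasi-regular sequence with flat quotient is regular where the algebra is flat
-/

set_option autoImplicit false
set_option linter.style.haveILetI false
set_option backward.isDefEq.respectTransparency.types false

noncomputable section

universe u

open TensorProduct RingTheory.Sequence FlatLib

namespace RelQRegLib

variable {A B : Type u} [CommRing A] [CommRing B] [Algebra A B]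

theorem exists_clear (p : Ideal A) [p.IsPrime] (c : p.ResidueField ⊗[A] B) :
    ∃ r ∉ p, ∃ w : B, r • c = (1 : p.ResidueField) ⊗ₜ[A] w := by
  induction c using TensorProduct.induction_on with
  | zero => exact ⟨1, fun h => (inferInstance : p.IsPrime).ne_top ((Ideal.eq_top_iff_one p).2 h), 0, by simp⟩
  | add a b ha hb =>
    obtain ⟨r, hr, w, hw⟩ := ha
    obtain ⟨r', hr', w', hw'⟩ := hb
    refine ⟨r * r', p.primeCompl.mul_mem hr hr', r' • w + r • w', ?_⟩
    rw [smul_add, tmul_add, tmul_smul, tmul_smul, ← hw, ← hw', mul_smul, mul_smul, smul_comm r' r a]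
  | tmul x w =>
    obtain ⟨a, s, hs, hx⟩ := IsFractionRing.div_surjective (A := A ⧸ p) x
    obtain ⟨a, rfl⟩ := Ideal.Quotient.mk_surjective a
    obtain ⟨s, rfl⟩ := Ideal.Quotient.mk_surjective s
    refine ⟨s, fun h => nonZeroDivisors.ne_zero hs (Ideal.Quotient.eq_zero_iff_mem.2 h), a • w, ?_⟩
    have e : s • x = a • (1 : p.ResidueField) := by
      rw [← Algebra.algebraMap_eq_smul_one, ← hx, Algebra.smul_def,
        IsScalarTower.algebraMap_apply A (A ⧸ p) p.ResidueField,
        IsScalarTower.algebraMap_apply A (A ⧸ p) p.ResidueField, Ideal.Quotient.algebraMap_eq p,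
        mul_div_cancel₀ _ (IsFractionRing.to_map_ne_zero_of_mem_nonZeroDivisors hs)]
    rw [smul_tmul', e, smul_tmul]

/-- Element-wise regularity on the fibre of a quasi-regular sequence with flat quotient. -/
theorem fibre_elim [Algebra.FiniteType A B] (q : Ideal B) [q.IsPrime] (g : List B) (hg : ∀ b ∈ g, b ∈ q)
    (hq : CAlgX.IsQuasiRegular g.get) (hfl : Module.Flat A (B ⧸ Ideal.ofList g))
    (i : ℕ) (hi : i < g.length) (m : B)
    (h : ∃ t ∉ q, t * (g[i] * m) ∈ (q.comap (algebraMap A B)).map (algebraMap A B) ⊔ Ideal.ofList (g.take i)) :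
    ∃ t ∉ q, t * m ∈ (q.comap (algebraMap A B)).map (algebraMap A B) ⊔ Ideal.ofList (g.take i) := by
  let p := q.comap (algebraMap A B)
  let J := Ideal.ofList (g.take i)
  let C := p.ResidueField ⊗[A] B
  let ι : B →ₐ[A] C := Algebra.TensorProduct.includeRight
  let S : Submonoid C := q.primeCompl.map ι.toRingHom
  let T := Localization S
  let ρ : B →+* T := (algebraMap C T).comp ι.toRingHom
  haveI : IsNoetherianRing C := Algebra.FiniteType.isNoetherianRing p.ResidueField C
  haveI : IsNoetherianRing T := IsLocalization.isNoetherianRing S T inferInstance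
  have hunit : ∀ s : B, s ∉ q → IsUnit (ρ s) := fun s hs => IsLocalization.map_units T (⟨ι s, s, hs, rfl⟩ : S)
  have hqC : CAlgX.IsQuasiRegular (fun j => ι (g.get j)) :=
    QReg16BC.isQuasiRegular_baseChange (f := g.get) p.ResidueField
      (by rw [← ofList_eq_span]; exact hfl) hq
  have hqT : CAlgX.IsQuasiRegular (fun j => ρ (g.get j)) :=
    RegImmKindLib.isQuasiRegular_localization hqC S T
  have hnot : ∀ r : A, r ∉ p → algebraMap A B r ∉ q := fun r hr => hr
  have hjac : ∀ j, ρ (g.get j) ∈ Ring.jacobson T := fun j => by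
    rw [← Ideal.jacobson_bot, Ideal.mem_jacobson_bot]
    intro y
    obtain ⟨⟨c, ⟨_, s, hs, rfl⟩⟩, hy⟩ := IsLocalization.surj S y
    obtain ⟨r, hr, w, hrc⟩ := exists_clear p c
    let u' : B := algebraMap A B r * s
    have hu : u' ∉ q := q.primeCompl.mul_mem (hnot r hr) hs
    have e : ρ u' * (ρ (g.get j) * y + 1) = ρ (g.get j * w + u') := by
      have hy' : y * ρ s = algebraMap C T c := hy
      have e1 : ρ u' * y = ρ w := by
        show (algebraMap C T) (ι (algebraMap A B r * s)) * y = algebraMap C T (ι w)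
        rw [show ι w = r • c from hrc.symm, map_mul, AlgHom.commutes, map_mul, Algebra.smul_def, map_mul, ← hy']
        show _ = algebraMap C T (algebraMap A C r) * (y * algebraMap C T (ι s))
        ring
      calc ρ u' * (ρ (g.get j) * y + 1) = ρ (g.get j) * (ρ u' * y) + ρ u' := by ring
        _ = ρ (g.get j * w + u') := by rw [e1, ← map_mul, ← map_add]
    have hv : g.get j * w + u' ∉ q := fun h => hu (by
      simpa using sub_mem h (Ideal.mul_mem_right w q (hg _ (List.get_mem g j))))
    exact (IsUnit.mul_iff.1 (e ▸ hunit _ hv)).2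
  have hw : IsWeaklyRegular T (g.map ρ) := by
    have h1 := Groth.Agent.S5803.result T g.length (fun j => ρ (g.get j)) hjac hqT
    rwa [show List.ofFn (fun j => ρ (g.get j)) = g.map ρ by
      rw [← Function.comp_def, ← List.map_ofFn, List.ofFn_get]] at h1
  obtain ⟨t, ht, hmem⟩ := h
  have hp0 : ∀ y ∈ p.map (algebraMap A B), ρ y = 0 := by
    intro y hy
    have : p.map (algebraMap A B) ≤ RingHom.ker ρ := by
      rw [Ideal.map_le_iff_le_comap]
      intro a ha
      show (algebraMap C T) (ι (algebraMap A B a)) = 0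
      rw [AlgHom.commutes, Algebra.TensorProduct.algebraMap_apply, Ideal.algebraMap_residueField_eq_zero.2 ha,
        TensorProduct.zero_tmul, map_zero]
    exact this hy
  have h1 : ρ g[i] * ρ m ∈ J.map ρ := by
    obtain ⟨y, hy, z, hz, hyz⟩ := Submodule.mem_sup.1 hmem
    have h2 : ρ t * (ρ g[i] * ρ m) ∈ J.map ρ := by
      rw [← map_mul, ← map_mul, ← hyz, map_add, hp0 y hy, zero_add]
      exact Ideal.mem_map_of_mem _ hz
    exact (Ideal.unit_mul_mem_iff_mem _ (hunit t ht)).1 h2
  have hi' : i < (g.map ρ).length := by rw [List.length_map]; exact hi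
  have hJ : Ideal.ofList ((g.map ρ).take i) • (⊤ : Submodule T T) = J.map ρ := by
    rw [smul_eq_mul, Ideal.mul_top, ← List.map_take, ← Ideal.map_ofList]
  have h3 : ρ m ∈ J.map ρ := by
    rw [← hJ]
    refine mem_of_isSMulRegular_quotient_of_smul_mem (hw.regular_mod_prev i hi') ?_
    rw [hJ, smul_eq_mul, List.getElem_map]
    exact h1
  rw [show J.map ρ = (J.map ι.toRingHom).map (algebraMap C T) from (Ideal.map_map _ _).symm,
    show ρ m = algebraMap C T (ι m) from rfl, IsLocalization.algebraMap_mem_map_algebraMap_iff S] at h3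
  obtain ⟨_, ⟨t', ht', rfl⟩, h4⟩ := h3
  have h5 : ι (t' * m) ∈ J.map ι := by
    rw [map_mul]; exact h4
  rw [QReg16BC.mem_map_iff] at h5
  change (1 : p.ResidueField) ⊗ₜ[A] (Submodule.Quotient.mk (t' * m) : B ⧸ J) = 0 at h5
  obtain ⟨r, hr, h6⟩ := FlatLib.exists_smul_mem_of_tmul_eq_zero p h5
  refine ⟨algebraMap A B r * t', q.primeCompl.mul_mem (hnot r hr) ht', ?_⟩
  have key : ∀ z ∈ p • (⊤ : Submodule A (B ⧸ J)), ∃ w ∈ p.map (algebraMap A B), Submodule.Quotient.mk w = z := by
    intro z hz
    refine Submodule.smul_induction_on hz (fun a ha w _ => ?_) (fun x y hx hy => ?_)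
    · obtain ⟨b, rfl⟩ := Submodule.Quotient.mk_surjective _ w
      exact ⟨a • b, by rw [Algebra.smul_def]; exact Ideal.mul_mem_right _ _ (Ideal.mem_map_of_mem _ ha), rfl⟩
    · obtain ⟨v, hv, rfl⟩ := hx
      obtain ⟨v', hv', rfl⟩ := hy
      exact ⟨v + v', add_mem hv hv', rfl⟩
  obtain ⟨w, hw, hwz⟩ := key _ h6
  rw [← Submodule.Quotient.mk_smul, Algebra.smul_def, Submodule.Quotient.eq] at hwz
  rw [mul_assoc, show algebraMap A B r * (t' * m) = w - (w - algebraMap A B r * (t' * m)) from (sub_sub_cancel _ _).symm]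
  exact sub_mem (Ideal.mem_sup_left hw) (Ideal.mem_sup_right hwz)

variable (A) in
/-- Element-wise regularity of a sequence on the fibre through a prime. -/
def FibElim (q : Ideal B) (g : List B) : Prop :=
  ∀ i (hi : i < g.length) (m : B),
    (∃ t ∉ q, t * (g[i] * m) ∈ (q.comap (algebraMap A B)).map (algebraMap A B) ⊔ Ideal.ofList (g.take i)) →
      ∃ t ∉ q, t * m ∈ (q.comap (algebraMap A B)).map (algebraMap A B) ⊔ Ideal.ofList (g.take i)

/-- Regularity and flatness near a prime. -/
theorem exists_open_step [Algebra.FinitePresentation A B] (q : PrimeSpectrum B) (g : List B)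
    (hg : ∀ b ∈ g, b ∈ q.asIdeal) (hflat : q ∈ flatLocus A B B) (hfib : FibElim A q.asIdeal g) :
    (∃ U : Set (PrimeSpectrum B), IsOpen U ∧ q ∈ U ∧ ∀ q' ∈ U, ∀ i (hi : i < g.length), ∀ m : B,
      g[i] * m ∈ Ideal.ofList (g.take i) → ∃ t ∉ q'.asIdeal, t * m ∈ Ideal.ofList (g.take i)) ∧
      ∀ i ≤ g.length, q ∈ flatLocus A B (B ⧸ (Ideal.ofList (g.take i) : Submodule B B)) := by
  let p := q.asIdeal.comap (algebraMap A B)
  let N : ℕ → Submodule B B := fun i => Ideal.ofList (g.take i)
  have hfgN : ∀ i, (N i).FG := fun i => by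
    classical
    exact ⟨(g.take i).toFinset, congrArg Ideal.span (List.coe_toFinset _)⟩
  have step : ∀ i (hi : i < g.length), q ∈ flatLocus A B (B ⧸ N i) →
      (∃ U : Set (PrimeSpectrum B), IsOpen U ∧ q ∈ U ∧ ∀ q' ∈ U,
        ∀ m : B, g[i] * m ∈ N i → ∃ t ∉ q'.asIdeal, t * m ∈ N i) ∧ q ∈ flatLocus A B (B ⧸ N (i + 1)) := by
    intro i hi hfl'
    haveI : Module.FinitePresentation B (B ⧸ N i) := by
      refine Module.finitePresentation_of_surjective (N i).mkQ (Submodule.mkQ_surjective _) ?_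
      rw [Submodule.ker_mkQ]; exact hfgN i
    have hcomap : ∀ m : B, Submodule.Quotient.mk m ∈ (p.map (algebraMap A B)) • (⊤ : Submodule B (B ⧸ N i)) ↔
        m ∈ p.map (algebraMap A B) ⊔ Ideal.ofList (g.take i) := fun m => by
      have h1 : p.map (algebraMap A B) ⊔ Ideal.ofList (g.take i) =
          Submodule.comap (N i).mkQ ((p.map (algebraMap A B)) • (⊤ : Submodule B (B ⧸ N i))) := by
        rw [← Submodule.range_mkQ (N i), ← Submodule.map_top, ← Submodule.map_smul'', Submodule.comap_map_eq,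
          Submodule.ker_mkQ, smul_eq_mul, Ideal.mul_top]
      rw [h1]; rfl
    obtain ⟨U, hUo, hqU, hU⟩ := FlatLib.slice_point (M := B ⧸ N i) q g[i] (hg _ (List.getElem_mem hi)) hfl'
      (fun mb hmb => by
        obtain ⟨m, rfl⟩ := Submodule.Quotient.mk_surjective _ mb
        obtain ⟨t, ht, hm⟩ := hmb
        rw [← Submodule.Quotient.mk_smul, ← Submodule.Quotient.mk_smul, hcomap, smul_eq_mul, smul_eq_mul] at hm
        obtain ⟨t', ht', hm'⟩ := hfib i hi m ⟨t, ht, hm⟩
        exact ⟨t', ht', by rw [← Submodule.Quotient.mk_smul, hcomap, smul_eq_mul]; exact hm'⟩)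
    refine ⟨⟨U, hUo, hqU, fun q' hq' m hm => ?_⟩, ?_⟩
    · obtain ⟨t, ht, htm⟩ := (hU q' hq').1 (Submodule.Quotient.mk m)
        (by rw [← Submodule.Quotient.mk_smul, Submodule.Quotient.mk_eq_zero, smul_eq_mul]; exact hm)
      exact ⟨t, ht, by rwa [← Submodule.Quotient.mk_smul, Submodule.Quotient.mk_eq_zero, smul_eq_mul] at htm⟩
    · obtain ⟨-, h2⟩ := hU q hqU
      let S : Ideal B := Ideal.span {g[i]}
      have hS : Ideal.span {g[i]} • (⊤ : Submodule B (B ⧸ N i)) = (N i ⊔ S).map (N i).mkQ := by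
        rw [Submodule.map_sup, Submodule.mkQ_map_self, bot_sup_eq, ← Submodule.range_mkQ (N i), ← Submodule.map_top,
          ← Submodule.map_smul'', smul_eq_mul, Ideal.mul_top]
      have hN : N i ⊔ S = N (i + 1) := by
        show Ideal.ofList (g.take i) ⊔ S = Ideal.ofList (g.take (i + 1))
        rw [List.take_add_one, List.getElem?_eq_getElem hi, Option.toList_some,
          Ideal.ofList_append, Ideal.ofList_singleton]
      rw [← flatLocus_congr (R := A) (((Submodule.quotEquivOfEq _ _ hS).trans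
        (Submodule.quotientQuotientEquivQuotient (N i) (N i ⊔ S) le_sup_left)).trans (Submodule.quotEquivOfEq _ _ hN))]
      exact h2
  have hflN : ∀ i ≤ g.length, q ∈ flatLocus A B (B ⧸ N i) := by
    intro i
    induction i with
    | zero =>
      intro _
      rw [← flatLocus_congr (R := A) (Submodule.quotEquivOfEqBot (N 0) (by simp [N])).symm]
      exact hflat
    | succ i ih => exact fun hi => (step i hi (ih (Nat.le_of_succ_le hi))).2
  choose U hUo hqU hU using fun i : Fin g.length => (step i.1 i.2 (hflN i.1 i.2.le)).1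
  exact ⟨⟨⋂ i, U i, isOpen_iInter_of_finite hUo, Set.mem_iInter.2 hqU,
    fun q' hq' i hi m hm => hU ⟨i, hi⟩ q' (Set.mem_iInter.1 hq' ⟨i, hi⟩) m hm⟩, hflN⟩

/-- A sequence regular on the fibre through a prime is regular on all small enough basic opens around it. -/
theorem exists_away_regular_of_fibElim [Algebra.FinitePresentation A B] (q : Ideal B) [q.IsPrime] (g : List B)
    (hg : ∀ b ∈ g, b ∈ q) (hflat : (⟨q, inferInstance⟩ : PrimeSpectrum B) ∈ flatLocus A B B)
    (hfib : FibElim A q g) :
    ∃ b ∉ q, ∀ c, b ∣ c → c ∉ q → ∀ (L : Type u) [CommRing L] [Algebra B L] [IsLocalization.Away c L],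
      IsRegular L (g.map (algebraMap B L)) := by
  obtain ⟨⟨U, hUo, hqU, hU⟩, -⟩ := exists_open_step ⟨q, inferInstance⟩ g hg hflat hfib
  obtain ⟨_, ⟨b₀, rfl⟩, hqb₀, hbU⟩ :=
    PrimeSpectrum.isTopologicalBasis_basic_opens.exists_subset_of_mem_open hqU hUo
  refine ⟨b₀, hqb₀, fun b hdvd hqb L _ _ _ => ⟨⟨fun i hi => ?_⟩, fun htop => ?_⟩⟩
  · rw [List.length_map] at hi
    let J := Ideal.ofList (g.take i)
    have hJ : Ideal.ofList ((g.map (algebraMap B L)).take i) • (⊤ : Submodule L L) = J.map (algebraMap B L) := by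
      rw [smul_eq_mul, Ideal.mul_top, ← List.map_take, ← Ideal.map_ofList]
    rw [isSMulRegular_quotient_iff_mem_of_smul_mem]
    intro x hx
    rw [hJ, smul_eq_mul, List.getElem_map] at hx
    rw [hJ]
    obtain ⟨⟨m, s⟩, hms⟩ := IsLocalization.surj (Submonoid.powers b) x
    have h1 : algebraMap B L (g[i] * m) ∈ J.map (algebraMap B L) := by
      rw [map_mul, ← hms, ← mul_assoc]
      exact Ideal.mul_mem_right _ _ hx
    rw [IsLocalization.algebraMap_mem_map_algebraMap_iff (Submonoid.powers b)] at h1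
    obtain ⟨s', hs', h2⟩ := h1
    rw [← mul_assoc, mul_comm s', mul_assoc] at h2
    let K : Ideal B := J.colon {s' * m}
    have hK : b ∈ K.radical := by
      rw [Ideal.radical_eq_sInf, Ideal.mem_sInf]
      rintro P ⟨hKP, hP⟩
      by_contra hbP
      obtain ⟨t, ht, htm⟩ := hU ⟨P, hP⟩ (hbU fun h => hbP (P.mem_of_dvd hdvd h)) i hi (s' * m) h2
      exact ht (hKP (Submodule.mem_colon_singleton.2 htm))
    obtain ⟨k, hk⟩ := hK
    have h3 : b ^ k * (s' * m) ∈ J := Submodule.mem_colon_singleton.1 hk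
    have h4 := Ideal.mem_map_of_mem (algebraMap B L) h3
    rw [map_mul, map_mul, Ideal.unit_mul_mem_iff_mem _ (by
      rw [map_pow]; exact (IsLocalization.Away.algebraMap_isUnit b).pow k),
      Ideal.unit_mul_mem_iff_mem _ (IsLocalization.map_units L (⟨s', hs'⟩ : Submonoid.powers b)), ← hms] at h4
    exact (Ideal.mul_unit_mem_iff_mem _ (IsLocalization.map_units L s)).1 h4
  · rw [smul_eq_mul, Ideal.mul_top, ← Ideal.map_ofList] at htop
    have h1 := (IsLocalization.map_algebraMap_ne_top_iff_disjoint (Submonoid.powers b) L (Ideal.ofList g)).2 ?_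
    · exact h1 htop.symm
    rw [Set.disjoint_left]
    rintro x ⟨k, rfl⟩ hx
    exact hqb ((inferInstance : q.IsPrime).mem_of_pow_mem k (Ideal.span_le.2 hg hx))

/-- A quasi-regular sequence with flat quotient is regular on a basic open around any prime where the algebra is
flat. -/
theorem exists_away_regular [Algebra.FinitePresentation A B] (q : Ideal B) [q.IsPrime] (g : List B)
    (hg : ∀ b ∈ g, b ∈ q) (hflat : (⟨q, inferInstance⟩ : PrimeSpectrum B) ∈ flatLocus A B B)
    (hq : CAlgX.IsQuasiRegular g.get) (hfl : Module.Flat A (B ⧸ Ideal.ofList g)) :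
    ∃ b ∉ q, ∀ (L : Type u) [CommRing L] [Algebra B L] [IsLocalization.Away b L],
      IsRegular L (g.map (algebraMap B L)) := by
  obtain ⟨b, hb, h⟩ := exists_away_regular_of_fibElim q g hg hflat
    (fun i hi m => fibre_elim q g hg hq hfl i hi m)
  exact ⟨b, hb, h b dvd_rfl hb⟩

end RelQRegLib
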