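import Groth.Agent.RelQRegLib.Stage
import Groth.Agent.RelQRegLib.Point
import Mathlib

/-!
# Lifting flat quotients by quasi-regular sequences along locally nilpotent ideals
-/

set_option autoImplicit false
set_option linter.style.haveILetI false
set_option backward.isDefEq.respectTransparency.types false

noncomputable section

universe u

open TensorProduct

namespace RelQRegLib

variable {A' B' : Type u} [CommRing A'] [CommRing B'] [Algebra A' B'] (I : Ideal A')

/-- Flatness of the lifted quotient. -/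
theorem flat_quotient_lift [Module.Flat A' B'] [Algebra.FinitePresentation A' B']
    (hI : ∀ x ∈ I, IsNilpotent x) {r : ℕ} (f' : Fin r → B')
    (hq : CAlgX.IsQuasiRegular (fun i => Ideal.Quotient.mk (Ideal.map (algebraMap A' B') I) (f' i)))
    (hflat : Module.Flat (A' ⧸ I) ((B' ⧸ Ideal.map (algebraMap A' B') I) ⧸
      Ideal.span (Set.range (fun i => Ideal.Quotient.mk (Ideal.map (algebraMap A' B') I) (f' i))))) :
    Module.Flat A' (B' ⧸ Ideal.span (Set.range f')) := by
  classical
  let g := List.ofFn f'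
  have hg : Ideal.ofList g = Ideal.span (Set.range f') := by
    rw [Ideal.ofList]; congr 1; ext x; simp [g, List.mem_ofFn]
  rw [RichLib.FlatColimit.flat_iff_flatLocus_eq_univ (R := A') (S := B') (M := B' ⧸ Ideal.span (Set.range f'))]
  intro q
  by_cases hJq : Ideal.span (Set.range f') ≤ q.asIdeal
  swap
  · obtain ⟨s, hsJ, hsq⟩ := SetLike.not_le_iff_exists.1 hJq
    haveI : Subsingleton (LocalizedModule q.asIdeal.primeCompl (B' ⧸ Ideal.span (Set.range f'))) :=
      LocalizedModule.subsingleton_iff.mpr fun y => by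
        obtain ⟨m, rfl⟩ := Submodule.Quotient.mk_surjective _ y
        exact ⟨s, hsq, by
          rw [← Submodule.Quotient.mk_smul, Submodule.Quotient.mk_eq_zero, smul_eq_mul]
          exact Ideal.mul_mem_right _ _ hsJ⟩
    show Module.Flat A' _
    infer_instance
  let K := I.map (algebraMap A' B')
  let mk : B' →+* B' ⧸ K := Ideal.Quotient.mk K
  let p' := q.asIdeal.comap (algebraMap A' B')
  have hIp : I ≤ p' := fun x hx => by
    obtain ⟨n, hn⟩ := hI x hx
    refine (inferInstance : p'.IsPrime).mem_of_pow_mem n ?_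
    rw [hn]; exact zero_mem _
  have hKp : K ≤ p'.map (algebraMap A' B') := Ideal.map_mono hIp
  have hKq : K ≤ q.asIdeal := hKp.trans Ideal.map_comap_le
  haveI hq₂ : (q.asIdeal.map mk).IsPrime :=
    Ideal.map_isPrime_of_surjective Ideal.Quotient.mk_surjective (by rw [Ideal.mk_ker]; exact hKq)
  have hcq : (q.asIdeal.map mk).comap mk = q.asIdeal := by
    rw [Ideal.comap_map_of_surjective _ Ideal.Quotient.mk_surjective, ← RingHom.ker_eq_comap_bot, Ideal.mk_ker]
    exact sup_eq_left.2 hKq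
  haveI : Algebra.FiniteType (A' ⧸ I) (B' ⧸ K) :=
    Algebra.FiniteType.of_restrictScalars_finiteType A' (A' ⧸ I) (B' ⧸ K)
  let g₂ := g.map mk
  have hmem : ∀ b ∈ g, b ∈ q.asIdeal := fun b hb => hJq (hg ▸ Ideal.subset_span hb)
  have hg₂ : g₂ = List.ofFn fun i => mk (f' i) := List.map_ofFn
  have hq₂' : CAlgX.IsQuasiRegular g₂.get :=
    RegImmKindLib.seq_congr_get _ _ (fun f => CAlgX.IsQuasiRegular f) (hg₂.symm.trans (List.ofFn_get _).symm) hq
  have hfl₂ : Module.Flat (A' ⧸ I) ((B' ⧸ K) ⧸ Ideal.ofList g₂) := by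
    rw [hg₂, CILib.ofList_ofFn]; exact hflat
  have hp₂ : ((q.asIdeal.map mk).comap (algebraMap (A' ⧸ I) (B' ⧸ K))).map (algebraMap (A' ⧸ I) (B' ⧸ K)) =
      (p'.map (algebraMap A' B')).map mk := by
    have e1 : (q.asIdeal.map mk).comap (algebraMap (A' ⧸ I) (B' ⧸ K)) = p'.map (Ideal.Quotient.mk I) := by
      refine le_antisymm (fun x hx => ?_) (Ideal.map_le_iff_le_comap.2 fun a ha => ?_)
      · obtain ⟨a, rfl⟩ := Ideal.Quotient.mk_surjective x
        refine Ideal.mem_map_of_mem _ ?_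
        show algebraMap A' B' a ∈ q.asIdeal
        rw [← hcq]
        exact hx
      · show mk (algebraMap A' B' a) ∈ q.asIdeal.map mk
        exact Ideal.mem_map_of_mem _ ha
    rw [e1, Ideal.map_map, Ideal.map_map]
    rfl
  have hfib : FibElim A' q.asIdeal g := by
    intro i hi m h
    obtain ⟨t, ht, htm⟩ := h
    have hi₂ : i < g₂.length := by rw [List.length_map]; exact hi
    have hmap : ((q.asIdeal.map mk).comap (algebraMap (A' ⧸ I) (B' ⧸ K))).map (algebraMap (A' ⧸ I) (B' ⧸ K)) ⊔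
        Ideal.ofList (g₂.take i) = (p'.map (algebraMap A' B') ⊔ Ideal.ofList (g.take i)).map mk := by
      rw [hp₂, Ideal.map_sup, Ideal.map_ofList, List.map_take]
    have hnot : ∀ s, s ∉ q.asIdeal → mk s ∉ q.asIdeal.map mk := fun s hs hms => hs (by rw [← hcq]; exact hms)
    obtain ⟨t₂, ht₂, htm₂⟩ := fibre_elim (A := A' ⧸ I) (q.asIdeal.map mk) g₂
      (fun b hb => by obtain ⟨a, ha, rfl⟩ := List.mem_map.1 hb; exact Ideal.mem_map_of_mem _ (hmem a ha))
      hq₂' hfl₂ i hi₂ (mk m) ⟨mk t, hnot t ht, by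
        rw [hmap, List.getElem_map, ← map_mul, ← map_mul]
        exact Ideal.mem_map_of_mem _ htm⟩
    obtain ⟨s, rfl⟩ := Ideal.Quotient.mk_surjective t₂
    refine ⟨s, fun h => ht₂ (Ideal.mem_map_of_mem _ h), ?_⟩
    rw [hmap, ← map_mul, ← Ideal.mem_comap, Ideal.comap_map_of_surjective _ Ideal.Quotient.mk_surjective,
      ← RingHom.ker_eq_comap_bot, Ideal.mk_ker] at htm₂
    rwa [sup_eq_left.2 (hKp.trans le_sup_left)] at htm₂
  have hflq : q ∈ FlatLib.flatLocus A' B' B' := by
    refine (FlatLib.mem_flatLocus_self_iff q).2 ?_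
    haveI : Module.Flat B' (Localization.AtPrime q.asIdeal) := IsLocalization.flat _ q.asIdeal.primeCompl
    exact Module.Flat.trans A' B' _
  obtain ⟨-, hN⟩ := exists_open_step q g hmem hflq hfib
  have h := hN g.length le_rfl
  rw [List.take_length, hg] at h
  exact h

/-- The base change of the lifted quotient modulo the ideal. -/
theorem smooth_quotient_lift [Module.Flat A' B'] [Algebra.FinitePresentation A' B']
    (hI : ∀ x ∈ I, IsNilpotent x) {r : ℕ} (f' : Fin r → B')
    (hq : CAlgX.IsQuasiRegular (fun i => Ideal.Quotient.mk (Ideal.map (algebraMap A' B') I) (f' i)))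
    (hsm : Algebra.Smooth (A' ⧸ I) ((B' ⧸ Ideal.map (algebraMap A' B') I) ⧸
      Ideal.span (Set.range (fun i => Ideal.Quotient.mk (Ideal.map (algebraMap A' B') I) (f' i))))) :
    Algebra.Smooth A' (B' ⧸ Ideal.span (Set.range f')) := by
  haveI := hsm
  haveI := flat_quotient_lift I hI f' hq inferInstance
  haveI : Algebra.FinitePresentation A' (B' ⧸ Ideal.span (Set.range f')) :=
    Algebra.FinitePresentation.quotient (Submodule.fg_span (Set.finite_range _))
  refine Algebra.Smooth.of_formallySmooth_fiber fun P _ => ?_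
  have hIP : I ≤ P := fun x hx => by
    obtain ⟨n, hn⟩ := hI x hx
    refine (inferInstance : P.IsPrime).mem_of_pow_mem n ?_
    rw [hn]; exact zero_mem _
  let K := I.map (algebraMap A' B')
  let φ : (A' ⧸ I) ⊗[A'] B' →ₐ[A' ⧸ I] B' ⧸ K :=
    Algebra.TensorProduct.lift (Algebra.ofId (A' ⧸ I) (B' ⧸ K)) (Ideal.Quotient.mkₐ A' K) fun _ _ => Commute.all _ _
  let ψ : B' ⧸ K →ₐ[A'] (A' ⧸ I) ⊗[A'] B' :=
    Ideal.Quotient.liftₐ K Algebra.TensorProduct.includeRight fun x hx => by
      have : K ≤ RingHom.ker (Algebra.TensorProduct.includeRight : B' →ₐ[A'] (A' ⧸ I) ⊗[A'] B') := by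
        rw [Ideal.map_le_iff_le_comap]
        intro a ha
        show (1 : A' ⧸ I) ⊗ₜ[A'] algebraMap A' B' a = 0
        rw [Algebra.algebraMap_eq_smul_one, ← TensorProduct.smul_tmul, Algebra.smul_def, mul_one,
          Ideal.Quotient.algebraMap_eq I, Ideal.Quotient.eq_zero_iff_mem.2 ha, TensorProduct.zero_tmul]
      exact this hx
  have hψ : ∀ x, ψ (φ x) = x := fun x => by
    induction x using TensorProduct.induction_on with
    | zero => rw [map_zero, map_zero]
    | add u v hu hv => rw [map_add, map_add, hu, hv]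
    | tmul a b =>
      obtain ⟨a, rfl⟩ := Ideal.Quotient.mk_surjective a
      show ψ (Ideal.Quotient.mk K (algebraMap A' B' a) * Ideal.Quotient.mk K b) = _
      rw [← map_mul]
      show (1 : A' ⧸ I) ⊗ₜ[A'] (algebraMap A' B' a * b) = _
      rw [← Algebra.smul_def, ← TensorProduct.smul_tmul, Algebra.smul_def, mul_one, Ideal.Quotient.algebraMap_eq I]
  have hφ : Function.Bijective φ := by
    refine ⟨fun u v h => by rw [← hψ u, ← hψ v, h], fun y => ?_⟩
    obtain ⟨b, rfl⟩ := Ideal.Quotient.mk_surjective y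
    exact ⟨1 ⊗ₜ b, by simp [φ, K]⟩
  let e : (A' ⧸ I) ⊗[A'] B' ≃ₐ[A' ⧸ I] B' ⧸ K := AlgEquiv.ofBijective φ hφ
  have hJ : Ideal.span (Set.range fun i => Ideal.Quotient.mk K (f' i)) =
      (Ideal.span (Set.range fun i => ((1 : A' ⧸ I) ⊗ₜ[A'] f' i : (A' ⧸ I) ⊗[A'] B'))).map
        (e : (A' ⧸ I) ⊗[A'] B' →+* B' ⧸ K) := by
    rw [Ideal.map_span, ← Set.range_comp]
    refine congrArg (fun F => Ideal.span (Set.range F)) (funext fun i => ?_)
    show Ideal.Quotient.mk K (f' i) = φ ((1 : A' ⧸ I) ⊗ₜ f' i)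
    simp [φ]
  haveI hC : Algebra.Smooth (A' ⧸ I) ((A' ⧸ I) ⊗[A'] (B' ⧸ Ideal.span (Set.range f'))) :=
    Algebra.Smooth.of_equiv ((tensorQuotEquiv (R := A') (S := A' ⧸ I) f').trans (Ideal.quotientEquivAlg _ _ e hJ)).symm
  letI : Algebra (A' ⧸ I) P.ResidueField :=
    (Ideal.Quotient.lift I (algebraMap A' P.ResidueField) fun a ha =>
      Ideal.algebraMap_residueField_eq_zero.2 (hIP ha)).toAlgebra
  haveI : IsScalarTower A' (A' ⧸ I) P.ResidueField := IsScalarTower.of_algebraMap_eq fun _ => rfl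
  exact Algebra.FormallySmooth.of_equiv
    (Algebra.TensorProduct.cancelBaseChange A' (A' ⧸ I) P.ResidueField P.ResidueField
      (B' ⧸ Ideal.span (Set.range f')))

end RelQRegLib
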