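import Groth.Agent.QReg16Lib.BaseChange
import Groth.Agent.RelQRegLib.Flat
import Groth.Agent.FlatLib.SchemeFlat
import Groth.Agent.RichLib.FlatColimit
import Groth.Agent.S5802
import Mathlib

/-!
# Powers of an ideal generated by a transversally regular sequence
-/

set_option autoImplicit false
set_option linter.style.haveILetI false
set_option backward.isDefEq.respectTransparency.types false

noncomputable section

universe u

namespace RelQRegLib

variable {A B : Type u} [CommRing A] [CommRing B] [Algebra A B]

theorem flat_pow_quotient (rs : List B) (hw : RingTheory.Sequence.IsWeaklyRegular B rs)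
    (hfl : Module.Flat A (B ⧸ Ideal.ofList rs)) (n : ℕ) :
    Module.Flat A (B ⧸ Ideal.ofList rs ^ n) := by
  rw [ofList_eq_span]
  exact QReg16BC.flat_pow rs.get (Groth.Agent.S5802.result _ _ _ (by rw [List.ofFn_get]; exact hw))
    (by rw [← ofList_eq_span]; exact hfl) n

theorem flat_ideal_of_flat_quotient [Module.Flat A B] (K : Ideal B) (h : Module.Flat A (B ⧸ K)) :
    Module.Flat A K := by
  haveI := h
  exact (Groth.Agent.S6304.result ((Submodule.subtype K).restrictScalars A) ((Submodule.mkQ K).restrictScalars A)
    Subtype.val_injective (LinearMap.exact_subtype_mkQ K) (Submodule.mkQ_surjective K)).2 inferInstance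

theorem flat_sub_quotient (K L : Ideal B) (hLK : L ≤ K) (hK : Module.Flat A (B ⧸ K))
    (hL : Module.Flat A (B ⧸ L)) : Module.Flat A (↥K ⧸ Submodule.comap (Submodule.subtype K) L) := by
  let f : (↥K ⧸ Submodule.comap (Submodule.subtype K) L) →ₗ[B] B ⧸ L :=
    Submodule.mapQ _ _ (Submodule.subtype K) le_rfl
  let g : (B ⧸ L) →ₗ[B] B ⧸ K := Submodule.factor hLK
  have hf : Function.Injective f := by
    refine (injective_iff_map_eq_zero _).2 fun x hx => ?_
    obtain ⟨y, rfl⟩ := Submodule.Quotient.mk_surjective _ x
    exact (Submodule.Quotient.mk_eq_zero _).2 ((Submodule.Quotient.mk_eq_zero L).1 hx)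
  have hex : Function.Exact f g := by
    intro y
    obtain ⟨b, rfl⟩ := Submodule.Quotient.mk_surjective _ y
    constructor
    · intro hb
      exact ⟨Submodule.Quotient.mk ⟨b, (Submodule.Quotient.mk_eq_zero K).1 hb⟩, rfl⟩
    · rintro ⟨x, hx⟩
      obtain ⟨x, rfl⟩ := Submodule.Quotient.mk_surjective _ x
      rw [← hx]
      exact (Submodule.Quotient.mk_eq_zero K).2 x.2
  haveI := hK
  exact (Groth.Agent.S6304.result (f.restrictScalars A) (g.restrictScalars A) hf hex
    (Submodule.factor_surjective hLK)).2 hL

end RelQRegLib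

namespace RelQRegLib

variable {A B : Type u} [CommRing A] [CommRing B] [Algebra A B]

theorem flat_restrictScalars {M : Type u} [AddCommGroup M] [Module B M] [Module A M] [IsScalarTower A B M]
    (h : Module.Flat A M) : Module.Flat A (RestrictScalars A B M) := by
  haveI := h
  exact Module.Flat.of_linearEquiv
    { __ := RestrictScalars.addEquiv A B M
      map_smul' := fun a x => by
        rw [RingHom.id_apply]
        show RestrictScalars.addEquiv A B M (a • x) = a • RestrictScalars.addEquiv A B M x
        rw [RestrictScalars.addEquiv_map_smul, algebraMap_smul] }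

theorem transversal_powers (rs : List B) (hrs : RegImm.IsTransRegularSeq A B rs) (n m : ℕ) (hnm : n < m) :
    Module.Flat A (RestrictScalars A B
      (↥(Ideal.ofList rs ^ n) ⧸ (Submodule.comap (Ideal.ofList rs ^ n).subtype (Ideal.ofList rs ^ m)))) ∧
      ∀ (q : Ideal B) [q.IsPrime], Ideal.ofList rs ≤ q →
        Module.Flat A (RestrictScalars A B (LocalizedModule q.primeCompl ↥(Ideal.ofList rs ^ n))) := by
  obtain ⟨hw, hfl⟩ := hrs
  have hJ : Module.Flat A (B ⧸ Ideal.ofList rs) := by
    have := hfl rs.length le_rfl
    rwa [List.take_length] at this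
  haveI : Module.Flat A B := by
    haveI := hfl 0 (Nat.zero_le _)
    refine Module.Flat.of_linearEquiv ((Submodule.quotEquivOfEqBot (Ideal.ofList (rs.take 0) : Submodule B B)
      (by simp)).symm.restrictScalars A)
  refine ⟨flat_restrictScalars (flat_sub_quotient _ _ (Ideal.pow_le_pow_right hnm.le)
    (flat_pow_quotient rs hw hJ n) (flat_pow_quotient rs hw hJ m)), fun q _ _ => flat_restrictScalars ?_⟩
  have hI := flat_ideal_of_flat_quotient _ (flat_pow_quotient rs hw hJ n)
  exact (RichLib.FlatColimit.flat_iff_flatLocus_eq_univ (R := A) (S := B)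
    (M := ↥(Ideal.ofList rs ^ n))).1 hI ⟨q, inferInstance⟩

end RelQRegLib
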