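import Groth.Agent.RelQRegLib.Fibres
import Groth.Agent.CIRingLib.Completion
import Groth.Agent.TransLib.Step
import Groth.Agent.TransLib.CIOver
import Groth.Prelude.Def_EGA4b
import Mathlib

/-!
# Transversally regular presentations and complete intersection fibres
-/

set_option autoImplicit false
set_option linter.style.haveILetI false
set_option backward.isDefEq.respectTransparency.types false

noncomputable section

universe u

open RingTheory.Sequence IsLocalRing

namespace RelQRegLib

/-- A transversally regular sequence stays weakly regular modulo an ideal of the base. -/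
theorem isWeaklyRegular_mod {A B : Type u} [CommRing A] [CommRing B] [Algebra A B] (rs : List B)
    (h : RegImm.IsTransRegularSeq A B rs) (a : Ideal A) :
    IsWeaklyRegular (B ⧸ a.map (algebraMap A B)) (rs.map (Ideal.Quotient.mk (a.map (algebraMap A B)))) := by
  obtain ⟨hw, hfl⟩ := h
  let M := a.map (algebraMap A B)
  refine ⟨fun i hi => ?_⟩
  rw [List.length_map] at hi
  let J := Ideal.ofList (rs.take i)
  have hJ : Ideal.ofList ((rs.map (Ideal.Quotient.mk M)).take i) • (⊤ : Submodule (B ⧸ M) (B ⧸ M)) =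
      J.map (Ideal.Quotient.mk M) := by
    rw [smul_eq_mul, Ideal.mul_top, ← List.map_take, ← Ideal.map_ofList]
  rw [isSMulRegular_quotient_iff_mem_of_smul_mem]
  intro x hx
  obtain ⟨m, rfl⟩ := Ideal.Quotient.mk_surjective x
  rw [hJ, smul_eq_mul, List.getElem_map, ← map_mul, ← Ideal.mem_comap,
    Ideal.comap_map_of_surjective _ Ideal.Quotient.mk_surjective, ← RingHom.ker_eq_comap_bot, Ideal.mk_ker] at hx
  rw [hJ, ← Ideal.mem_comap, Ideal.comap_map_of_surjective _ Ideal.Quotient.mk_surjective,
    ← RingHom.ker_eq_comap_bot, Ideal.mk_ker]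
  obtain ⟨z, hz, y, hy, hzy⟩ := Submodule.mem_sup.1 hx
  let J' := Ideal.ofList (rs.take (i + 1))
  have hJ' : J' = J ⊔ Ideal.span {rs[i]} := by
    show Ideal.ofList (rs.take (i + 1)) = _
    rw [List.take_add_one, List.getElem?_eq_getElem hi, Option.toList_some, Ideal.ofList_append,
      Ideal.ofList_singleton]
  have hyJ : y ∈ J' := by
    rw [show y = rs[i] * m - z from eq_sub_of_add_eq' hzy, hJ']
    exact sub_mem (Ideal.mem_sup_right (Ideal.mul_mem_right _ _ (Ideal.subset_span rfl))) (Ideal.mem_sup_left hz)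
  have h1 := inf_map_le (hfl (i + 1) hi) a (show y ∈ J' ⊓ M from ⟨hyJ, hy⟩)
  change y ∈ M * J' at h1
  rw [hJ', Ideal.mul_sup] at h1
  obtain ⟨z', hz', v, hv, hyv⟩ := Submodule.mem_sup.1 h1
  obtain ⟨w, hw', rfl⟩ := Ideal.mem_mul_span_singleton.1 hv
  have h2 : rs[i] * (m - w) ∈ J := by
    have e : rs[i] * (m - w) = z + z' := by
      rw [mul_sub, ← hzy, ← hyv]; ring
    rw [e]
    exact add_mem hz (Ideal.mul_le_right hz')
  have h3 : m - w ∈ J := by
    have := mem_of_isSMulRegular_quotient_of_smul_mem (hw.regular_mod_prev i hi) (x := m - w)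
    simp only [smul_eq_mul, Ideal.mul_top] at this
    exact this h2
  rw [show m = (m - w) + w from (sub_add_cancel m w).symm]
  exact add_mem (Ideal.mem_sup_left h3) (Ideal.mem_sup_right hw')

theorem transRegular_iff (A C B : Type u) [CommRing A] [IsLocalRing A]
    [IsNoetherianRing A] [CommRing C] [IsLocalRing C] [IsNoetherianRing C] [Algebra A C]
    [IsLocalHom (algebraMap A C)] [Module.Flat A C] (hreg : IsRegularLocalRing (EGA4.FibRing A C))
    [CommRing B] [IsLocalRing B] [Algebra C B] [Algebra A B] [IsScalarTower A C B] [IsLocalHom (algebraMap A B)]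
    (hsurj : Function.Surjective (algebraMap C B)) :
    (∃ rs : List C, Ideal.ofList rs = RingHom.ker (algebraMap C B) ∧ RegImm.IsTransRegularSeq A C rs) ↔
      (Module.Flat A B ∧ Pi1.IsCompleteIntersection (EGA4.FibRing A B)) := by
  haveI := hreg
  haveI : IsNoetherianRing B := isNoetherianRing_of_surjective _ _ _ hsurj
  let J := RingHom.ker (algebraMap C B)
  let MC := (maximalIdeal A).map (algebraMap A C)
  let MB := (maximalIdeal A).map (algebraMap A B)
  have hMB : MB = MC.map (algebraMap C B) := by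
    rw [Ideal.map_map, ← IsScalarTower.algebraMap_eq A C B]
  let π : C ⧸ MC →+* B ⧸ MB :=
    Ideal.quotientMap MB (algebraMap C B) (Ideal.map_le_iff_le_comap.1 hMB.ge)
  have hπ : Function.Surjective π := fun y => by
    obtain ⟨b, rfl⟩ := Ideal.Quotient.mk_surjective y
    obtain ⟨c, rfl⟩ := hsurj b
    exact ⟨Ideal.Quotient.mk _ c, rfl⟩
  have hker : RingHom.ker π = J.map (Ideal.Quotient.mk MC) := by
    refine le_antisymm (fun x hx => ?_) ?_
    · obtain ⟨c, rfl⟩ := Ideal.Quotient.mk_surjective x
      have h1 : algebraMap C B c ∈ MC.map (algebraMap C B) := by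
        rw [← hMB]; exact Ideal.Quotient.eq_zero_iff_mem.1 hx
      rw [← Ideal.mem_comap, Ideal.comap_map_of_surjective _ hsurj, ← RingHom.ker_eq_comap_bot] at h1
      obtain ⟨y, hy, j, hj, rfl⟩ := Submodule.mem_sup.1 h1
      rw [map_add, Ideal.Quotient.eq_zero_iff_mem.2 hy, zero_add]
      exact Ideal.mem_map_of_mem _ hj
    · rw [Ideal.map_le_iff_le_comap]
      intro j hj
      show Ideal.Quotient.mk MB (algebraMap C B j) = 0
      rw [RingHom.mem_ker.1 hj, map_zero]
  haveI : Nontrivial (B ⧸ MB) := EGA4.mB_ne_top_nontrivial A B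
  haveI : IsLocalRing (B ⧸ MB) := IsLocalRing.of_surjective' (Ideal.Quotient.mk MB) Ideal.Quotient.mk_surjective
  have hiff : Pi1.IsCompleteIntersection (EGA4.FibRing A B) ↔ TransLib.HasRegKer π :=
    CIRingLib.isCompleteIntersection_iff π hπ
  have hJm : J ≤ maximalIdeal C := le_maximalIdeal (RingHom.ker_ne_top _)
  let ψ : C →ₐ[A] B := IsScalarTower.toAlgHom A C B
  rw [hiff]
  constructor
  · rintro ⟨rs, hrs, htr⟩
    refine ⟨?_, rs.map (Ideal.Quotient.mk MC), ?_, ?_⟩
    · have h := htr.2 rs.length le_rfl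
      rw [List.take_length, hrs] at h
      haveI : Module.Flat A (C ⧸ RingHom.ker ψ) := h
      exact Module.Flat.of_linearEquiv (Ideal.quotientKerAlgEquivOfSurjective (f := ψ) hsurj).symm.toLinearEquiv
    · refine IsRegular.of_isWeaklyRegular_of_mem_maximalIdeal _ (fun r hr => ?_) (isWeaklyRegular_mod rs htr _)
      obtain ⟨c, hc, rfl⟩ := List.mem_map.1 hr
      have h1 : c ∈ maximalIdeal C := hJm (show c ∈ RingHom.ker (algebraMap C B) from hrs ▸ Ideal.subset_span hc)
      rw [← map_maximalIdeal_of_surjective (Ideal.Quotient.mk MC) Ideal.Quotient.mk_surjective]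
      exact Ideal.mem_map_of_mem _ h1
    · rw [hker, ← Ideal.map_ofList, hrs]
  · rintro ⟨hfl, ts, hts, htsker⟩
    haveI := hfl
    rw [hker] at htsker
    have hlift : ∀ j : Fin ts.length, ∃ c ∈ J, Ideal.Quotient.mk MC c = ts.get j := fun j =>
      (Ideal.mem_map_iff_of_surjective (Ideal.Quotient.mk MC) Ideal.Quotient.mk_surjective).1
        (htsker ▸ Ideal.subset_span (List.get_mem ts j))
    choose γ hγ hγe using hlift
    let g : List C := List.ofFn γ
    have hmap : g.map (Ideal.Quotient.mk MC) = ts := by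
      rw [List.map_ofFn]
      conv_rhs => rw [← List.ofFn_get ts]
      exact congrArg List.ofFn (funext hγe)
    have hw : IsWeaklyRegular (C ⧸ ((maximalIdeal A).map (algebraMap A C) • (⊤ : Submodule C C))) g := by
      rw [smul_eq_mul, Ideal.mul_top, ← isWeaklyRegular_map_algebraMap_iff (S := C ⧸ MC)]
      rw [show g.map (algebraMap C (C ⧸ MC)) = ts from hmap]
      exact hts.toIsWeaklyRegular
    obtain ⟨h1, h2⟩ := TransLib.regular_and_flat (A := A) C g hw
    have hgJ : Ideal.ofList g = J := by
      have hle : Ideal.ofList g ≤ J := Ideal.span_le.2 fun x hx => by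
        obtain ⟨j, rfl⟩ := List.mem_ofFn.1 hx
        exact hγ j
      refine le_antisymm hle (Submodule.le_of_le_smul_of_le_jacobson_bot (I := maximalIdeal C)
        (IsNoetherian.noetherian J) (maximalIdeal_le_jacobson _) fun x hx => ?_)
      have h3 : Ideal.Quotient.mk MC x ∈ (Ideal.ofList g).map (Ideal.Quotient.mk MC) := by
        rw [Ideal.map_ofList, hmap, htsker]; exact Ideal.mem_map_of_mem _ hx
      rw [← Ideal.mem_comap, Ideal.comap_map_of_surjective _ Ideal.Quotient.mk_surjective, ← RingHom.ker_eq_comap_bot,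
        Ideal.mk_ker] at h3
      obtain ⟨z, hz, e, he, rfl⟩ := Submodule.mem_sup.1 h3
      have hflJ : Module.Flat A (C ⧸ J) :=
        Module.Flat.of_linearEquiv (Ideal.quotientKerAlgEquivOfSurjective (f := ψ) hsurj).toLinearEquiv
      have he' := inf_map_le hflJ (maximalIdeal A)
        (show e ∈ J ⊓ MC from ⟨by simpa using sub_mem hx (hle hz), he⟩)
      refine add_mem (Ideal.mem_sup_left hz) (Ideal.mem_sup_right ?_)
      rw [smul_eq_mul]
      exact Ideal.mul_mono_left (((local_hom_TFAE (algebraMap A C)).out 0 2).1 ‹IsLocalHom (algebraMap A C)›) he'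
    refine ⟨g, hgJ, h1, fun j hj => ?_⟩
    have h := h2 j hj
    rw [smul_eq_mul, Ideal.mul_top] at h
    exact h

end RelQRegLib
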